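import Cfsg.Agent.Lib.CA.Chars
import Cfsg.Agent.Lib.CharDeep.ClassSum
import Cfsg.Agent.Lib.Invol.Dihedral
import Mathlib.GroupTheory.GroupAction.Quotient
import Mathlib.GroupTheory.Subgroup.Simple
import Mathlib.Data.ZMod.Basic

/-!
# Simple CA-groups of even order: centralizers of involutions are elementary abelian
-/

set_option autoImplicit false

open scoped ComplexConjugate

namespace CfsgLib.CA.Even

universe u

variable {G : Type u} [Group G]

/-- In a simple non-abelian CA-group all involutions are conjugate. -/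
theorem isConj_of_involutions [Finite G] [IsSimpleGroup G] (hne : ¬ IsMulCommutative G)
    (hCA : ∀ x : G, x ≠ 1 → ∀ a ∈ Subgroup.centralizer ({x} : Set G),
      ∀ b ∈ Subgroup.centralizer ({x} : Set G), a * b = b * a)
    {t s : G} (ht : orderOf t = 2) (hs : orderOf s = 2) : IsConj t s := by
  by_contra hts
  have hcomm : ∀ g : G, g * t * g⁻¹ ∈ Subgroup.centralizer ({s} : Set G) := by
    intro g
    have hg : orderOf (g * t * g⁻¹) = 2 := by rw [Invol.orderOf_conj, ht]
    have hnc : ¬ IsConj (g * t * g⁻¹) s := fun h =>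
      hts ((isConj_iff.2 ⟨g, rfl⟩).trans h)
    obtain ⟨-, hw, h1, h2⟩ := Invol.exists_middle_of_not_isConj hg hs hnc
    rw [Subgroup.mem_centralizer_singleton_iff]
    exact hCA _ (Invol.ne_one_of_invol hw) _ (Subgroup.mem_centralizer_singleton_iff.mpr h1.symm)
      _ (Subgroup.mem_centralizer_singleton_iff.mpr h2.symm)
  have htop : Subgroup.normalClosure ({t} : Set G) = ⊤ :=
    Subgroup.Normal.eq_bot_or_eq_top Subgroup.normalClosure_normal |>.resolve_left fun h =>
      Invol.ne_one_of_invol ht (Subgroup.mem_bot.mp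
        (h ▸ Subgroup.subset_normalClosure (Set.mem_singleton t)))
  have hall : ∀ g : G, g ∈ Subgroup.centralizer ({s} : Set G) := by
    intro g
    have hg : g ∈ Subgroup.normalClosure ({t} : Set G) := htop ▸ Subgroup.mem_top g
    refine (Subgroup.closure_le _).mpr ?_ hg
    intro x hx
    obtain ⟨y, hy, hyx⟩ := Group.mem_conjugatesOfSet_iff.mp hx
    rw [Set.mem_singleton_iff.mp hy] at hyx
    obtain ⟨c, rfl⟩ := isConj_iff.mp hyx
    exact hcomm c
  exact hne ⟨⟨fun a b => hCA s (Invol.ne_one_of_invol hs) a (hall a) b (hall b)⟩⟩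

section Setup

variable {A : Subgroup G} (hA : SelfCent A)
include hA

/-- The elements of square one of `A`. -/
def omega : Subgroup A where
  carrier := {b | b * b = 1}
  one_mem' := mul_one 1
  mul_mem' {b c} hb hc := by
    have h : b * c = c * b := Subtype.ext (hA.comm b.2 c.2)
    show b * c * (b * c) = 1
    calc b * c * (b * c) = b * (c * b) * c := by simp only [mul_assoc]
      _ = b * (b * c) * c := by rw [h]
      _ = (b * b) * (c * c) := by simp only [mul_assoc]
      _ = 1 := by rw [hb, hc, mul_one]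
  inv_mem' {b} hb := by
    show b⁻¹ * b⁻¹ = 1
    rw [← mul_inv_rev, hb, inv_one]

omit hA in
/-- The involutions of `A`. -/
noncomputable def invs (A : Subgroup G) [Fintype A] : Finset A :=
  open Classical in Finset.univ.filter fun b : A => b * b = 1 ∧ b ≠ 1

omit hA in
theorem mem_invs [Fintype A] {b : A} : b ∈ invs A ↔ b * b = 1 ∧ b ≠ 1 := by
  simp [invs]

omit hA in
theorem mem_invs_iff_orderOf [Fintype A] {b : A} : b ∈ invs A ↔ orderOf (b : G) = 2 := by
  rw [mem_invs]
  constructor
  · rintro ⟨h1, h2⟩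
    exact Invol.orderOf_eq_two (fun h => h2 (Subtype.ext h)) (by exact_mod_cast h1)
  · intro h
    exact ⟨Subtype.ext (by simpa using Invol.mul_self_eq_one h),
      fun hb => Invol.ne_one_of_invol h (by simp [hb])⟩

theorem card_omega [Fintype A] : Nat.card (omega hA) = (invs A).card + 1 := by
  classical
  rw [← Finset.card_insert_of_notMem (fun h => (mem_invs.mp h).2 rfl : (1 : A) ∉ invs A),
    Nat.card_eq_fintype_card, Fintype.card_subtype]
  congr 1
  ext b
  simp only [Finset.mem_filter, Finset.mem_univ, true_and, Finset.mem_insert, mem_invs]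
  show b * b = 1 ↔ _
  by_cases hb : b = 1 <;> simp [hb]

theorem card_invs_succ_dvd [Fintype A] : (invs A).card + 1 ∣ Nat.card A :=
  card_omega hA ▸ Subgroup.card_subgroup_dvd_card _

theorem odd_card_invs [Fintype A] {t : A} (ht : t ∈ invs A) : Odd (invs A).card := by
  have h1 : orderOf (⟨t, (mem_invs.mp ht).1⟩ : omega hA) = 2 :=
    Invol.orderOf_eq_two (fun h => (mem_invs.mp ht).2 (congrArg Subtype.val h))
      (Subtype.ext (mem_invs.mp ht).1)
  have h2 := orderOf_dvd_natCard (⟨t, (mem_invs.mp ht).1⟩ : omega hA)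
  rw [h1, card_omega hA] at h2
  rw [Nat.odd_iff]
  omega

omit hA in
theorem conjA_mem_invs [Fintype A] (x : Subgroup.normalizer (A : Set G)) {b : A} (hb : b ∈ invs A) :
    conjA A x b ∈ invs A := by
  rw [mem_invs] at hb ⊢
  exact ⟨by rw [← map_mul, hb.1, map_one],
    fun h => hb.2 ((conjA A x).injective (h.trans (map_one _).symm))⟩

/-- An involution normalizing `A` lies in `A`. -/
theorem mem_of_invol_normalizer [Fintype A] {t : A} (ht : t ∈ invs A) {u : G}
    (hu : orderOf u = 2) (huN : u ∈ Subgroup.normalizer (A : Set G)) : u ∈ A := by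
  by_contra huA
  have hfree : ∀ b ∈ invs A, conjA A ⟨u, huN⟩ b ≠ b := by
    intro b hb h
    refine huA (hA.mem_of_commute b.2 (fun h1 => (mem_invs.mp hb).2 (Subtype.ext h1)) ?_)
    have h' : u * b * u⁻¹ = b := congrArg Subtype.val h
    exact mul_inv_eq_iff_eq_mul.mp h'
  have hzero : (((invs A).card : ℕ) : ZMod 2) = 0 := by
    rw [Finset.card_eq_sum_ones, Nat.cast_sum]
    refine Finset.sum_involution (fun b _ => conjA A ⟨u, huN⟩ b) (fun b _ => by decide)
      (fun b hb _ => hfree b hb) (fun b hb => conjA_mem_invs _ hb) (fun b _ => ?_)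
    apply Subtype.ext
    show u * (u * b * u⁻¹) * u⁻¹ = b
    have := Invol.mul_self_eq_one hu
    simp only [mul_assoc, Invol.inv_eq_self hu]
    rw [this, mul_one, ← mul_assoc, this, one_mul]
  rw [ZMod.natCast_eq_zero_iff_even] at hzero
  exact Nat.not_even_iff_odd.mpr (odd_card_invs hA ht) hzero

variable [Fintype G] [Fintype A] [Fintype (Subgroup.normalizer (A : Set G))]
variable (hconj : ∀ u v : G, orderOf u = 2 → orderOf v = 2 → IsConj u v)
variable {t : A} (ht : t ∈ invs A)
include hconj ht

theorem card_fibre {y : A} (hy : y ∈ invs A) [DecidableEq A] :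
    (Finset.univ.filter fun x : Subgroup.normalizer (A : Set G) => conjA A x t = y).card =
      Nat.card A := by
  obtain ⟨g, hg⟩ := isConj_iff.mp (hconj t y (mem_invs_iff_orderOf.mp ht) (mem_invs_iff_orderOf.mp hy))
  have ht1 : (t : G) ≠ 1 := fun h => (mem_invs.mp ht).2 (Subtype.ext h)
  have hgN : g ∈ Subgroup.normalizer (A : Set G) :=
    hA.mem_normalizer_of_conj_mem t.2 ht1 (hg ▸ y.2)
  rw [← Fintype.card_subtype, ← Nat.card_eq_fintype_card]
  refine Nat.card_congr
    { toFun := fun x => ⟨g⁻¹ * (x.1 : G), hA.mem_of_commute t.2 ht1 ?_⟩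
      invFun := fun b => ⟨⟨g * b, Subgroup.mul_mem _ hgN (Subgroup.le_normalizer b.2)⟩,
        Subtype.ext ?_⟩
      left_inv := fun x => Subtype.ext (Subtype.ext (by simp))
      right_inv := fun b => Subtype.ext (by simp) }
  · have hx : (x.1 : G) * t * (x.1 : G)⁻¹ = g * t * g⁻¹ :=
      (congrArg Subtype.val x.2).trans hg.symm
    calc g⁻¹ * (x.1 : G) * t = g⁻¹ * ((x.1 : G) * t * (x.1 : G)⁻¹) * x.1 := by group
      _ = g⁻¹ * (g * t * g⁻¹) * x.1 := by rw [hx]
      _ = t * (g⁻¹ * x.1) := by group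
  · show g * b * t * (g * b)⁻¹ = y
    rw [← hg, mul_inv_rev, mul_assoc g, hA.comm b.2 t.2]
    group

theorem sum_normalizer (f : A → ℂ) :
    ∑ x : Subgroup.normalizer (A : Set G), f (conjA A x t) =
      (Nat.card A : ℂ) * ∑ y ∈ invs A, f y := by
  classical
  rw [Finset.mul_sum, ← Finset.sum_fiberwise_of_maps_to (t := invs A) (g := fun x => conjA A x t)
    (fun x _ => conjA_mem_invs x ht)]
  refine Finset.sum_congr rfl fun y hy => ?_
  rw [Finset.sum_congr rfl (g := fun _ => f y) (fun x hx => by rw [(Finset.mem_filter.mp hx).2]),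
    Finset.sum_const, card_fibre hA hconj ht hy, nsmul_eq_mul]

theorem card_normalizer :
    Nat.card (Subgroup.normalizer (A : Set G)) = Nat.card A * (invs A).card := by
  have h := sum_normalizer hA hconj ht (fun _ => 1)
  simp only [Finset.sum_const, nsmul_eq_mul, mul_one, Finset.card_univ,
    ← Nat.card_eq_fintype_card] at h
  exact_mod_cast h

/-- The orbits of nonprincipal characters all have as many elements as `A` has involutions. -/
theorem card_orb_fibre [DecidableEq (Orb A)] (o : Orb A) :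
    (Finset.univ.filter fun l : NP A => orb A l = o).card = (invs A).card := by
  classical
  obtain ⟨l, rfl⟩ := Quotient.exists_rep o
  have h : ∑ k : NP A, (Nat.card A : ℂ) * (if orb A l = orb A k then 1 else 0) =
      (Nat.card (Subgroup.normalizer (A : Set G)) : ℂ) := by
    simp only [card_mul_orb_eq hA]
    rw [Finset.sum_comm]
    simp [Nat.card_eq_fintype_card]
  rw [← Finset.mul_sum, Finset.sum_boole, card_normalizer hA hconj ht, Nat.cast_mul,
    mul_right_inj' (Nat.cast_ne_zero.mpr Nat.card_pos.ne'), Nat.cast_inj] at h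
  rw [← h]
  congr 1
  ext k
  simp [eq_comm]

theorem card_A_eq [Fintype (Orb A)] :
    Nat.card A = (invs A).card * Fintype.card (Orb A) + 1 := by
  classical
  have h1 : Fintype.card (NP A) = (invs A).card * Fintype.card (Orb A) := by
    rw [← Finset.card_univ, Finset.card_eq_sum_card_fiberwise (f := orb A)
      (t := Finset.univ) (fun _ _ => Finset.mem_univ _),
      Finset.sum_congr rfl (fun o _ => card_orb_fibre hA hconj ht o),
      Finset.sum_const, Finset.card_univ, smul_eq_mul, mul_comm]
  have h2 := card_irrA hA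
  simp only [Nat.card_eq_fintype_card] at h2 ⊢
  rw [Fintype.card_subtype_compl] at h1
  simp only [Fintype.card_subtype_eq] at h1
  have : 0 < Fintype.card (Cfsg.IrrCharacter A) := Fintype.card_pos_iff.mpr ⟨Char.principalIrr⟩
  omega

/-- An element of the normalizer of order dividing `|A|` lies in `A`. -/
theorem mem_of_normalizer_pow {y : G} (hy : y ∈ Subgroup.normalizer (A : Set G))
    (hpow : y ^ Nat.card A = 1) : y ∈ A := by
  classical
  let N := Subgroup.normalizer (A : Set G)
  have hidx : (A.subgroupOf N).index = (invs A).card := by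
    have h := Subgroup.card_mul_index (A.subgroupOf N)
    rw [Nat.card_congr (Subgroup.subgroupOfEquivOfLe (H := A) (K := N) Subgroup.le_normalizer).toEquiv,
      card_normalizer hA hconj ht] at h
    exact Nat.eq_of_mul_eq_mul_left Nat.card_pos h
  have := (Subgroup.normal_in_normalizer : (A.subgroupOf N).Normal)
  have h1 : y ^ (invs A).card ∈ A := by
    have h := Subgroup.pow_index_mem (A.subgroupOf N) (⟨y, hy⟩ : N)
    rw [hidx, Subgroup.mem_subgroupOf] at h
    simpa using h
  have h2 : y * (y ^ (invs A).card) ^ Fintype.card (Orb A) = 1 := by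
    rw [← pow_mul, ← pow_succ', ← card_A_eq hA hconj ht, hpow]
  rw [eq_inv_of_mul_eq_one_left h2]
  exact inv_mem (pow_mem h1 _)

/-- The number of conjugates of `A` is congruent to one modulo `|A|`. -/
theorem index_normalizer_modEq [Fintype (G ⧸ Subgroup.normalizer (A : Set G))] :
    ∃ k, (Subgroup.normalizer (A : Set G)).index + Nat.card A = k * Nat.card A + 1 := by
  classical
  let N := Subgroup.normalizer (A : Set G)
  have hfix : ∀ b : A, b ≠ 1 → Fintype.card (MulAction.fixedBy (G ⧸ N) b) = 1 := by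
    intro b hb
    refine Fintype.card_eq_one_iff.mpr ⟨⟨((1 : G) : G ⧸ N), ?_⟩, ?_⟩
    · show (((b : G) * 1 : G) : G ⧸ N) = ((1 : G) : G ⧸ N)
      rw [mul_one, QuotientGroup.eq, mul_one]
      exact inv_mem (Subgroup.le_normalizer b.2)
    · rintro ⟨x, hx⟩
      obtain ⟨g, rfl⟩ := QuotientGroup.mk_surjective x
      have hg : g⁻¹ * (b : G)⁻¹ * g ∈ N := by
        have h : (((b : G) * g : G) : G ⧸ N) = (g : G ⧸ N) := hx
        rw [QuotientGroup.eq, mul_inv_rev] at h
        exact h
      have hgA : g⁻¹ * (b : G)⁻¹ * g ∈ A := by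
        refine mem_of_normalizer_pow hA hconj ht hg ?_
        have : (g⁻¹ * (b : G)⁻¹ * g) ^ Nat.card A = g⁻¹ * ((b : G)⁻¹) ^ Nat.card A * g := by
          have h := conj_pow (i := Nat.card A) (a := g⁻¹) (b := (b : G)⁻¹)
          rwa [inv_inv] at h
        have hb' : ((b⁻¹ : A) : G) ^ Nat.card A = 1 := by
          rw [← SubmonoidClass.coe_pow, pow_card_eq_one']
          rfl
        rw [Subgroup.coe_inv] at hb'
        rw [this, hb', mul_one, inv_mul_cancel]
      refine Subtype.ext ?_
      show (g : G ⧸ N) = ((1 : G) : G ⧸ N)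
      rw [QuotientGroup.eq, mul_one]
      refine inv_mem (hA.mem_normalizer_of_conj_mem hgA (fun h => hb ?_) ?_)
      · have h' := congrArg (fun z => g * z * g⁻¹) h
        simp [mul_assoc] at h'
        exact h'
      · simp [mul_assoc]
  have h := MulAction.sum_card_fixedBy_eq_card_orbits_mul_card_group A (G ⧸ N)
  rw [← Finset.add_sum_erase _ _ (Finset.mem_univ (1 : A)),
    Finset.sum_congr rfl (fun b hb => hfix b (Finset.mem_erase.mp hb).1), Finset.sum_const,
    smul_eq_mul, mul_one, Finset.card_erase_of_mem (Finset.mem_univ _), Finset.card_univ] at h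
  have h1 : Fintype.card (MulAction.fixedBy (G ⧸ N) (1 : A)) = N.index := by
    rw [Subgroup.index, Nat.card_eq_fintype_card]
    exact Fintype.card_congr (Equiv.subtypeUnivEquiv fun x => one_smul A x)
  rw [h1] at h
  refine ⟨Fintype.card (Quotient (MulAction.orbitRel A (G ⧸ N))), ?_⟩
  rw [Nat.card_eq_fintype_card]
  have : 0 < Fintype.card A := Fintype.card_pos
  show N.index + _ = _
  omega

/-- Pairs of involutions with product a nonidentity element of `A`. -/
theorem card_pairs_mem (htG : orderOf (t : G) = 2) {x : A} (hx : x ≠ 1) [DecidableEq G]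
    [DecidablePred (IsConj (t : G))] :
    ((Finset.univ.filter (IsConj (t : G)) ×ˢ Finset.univ.filter (IsConj (t : G))).filter
      (fun p => p.1 * p.2 = (x : G))).card =
      if x ∈ invs A then (invs A).card - 1 else 0 := by
  classical
  have hinv : ∀ {u : G}, IsConj (t : G) u → orderOf u = 2 := by
    intro u h
    obtain ⟨g, rfl⟩ := isConj_iff.mp h
    rw [Invol.orderOf_conj, htG]
  have hpair : ∀ {u v : G}, IsConj (t : G) u → IsConj (t : G) v → u * v = (x : G) →
      u ∈ A ∧ x ∈ invs A := by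
    intro u v hu hv h
    have hi : u * (x : G) * u⁻¹ = (x : G)⁻¹ := by
      rw [← h]
      exact Invol.conj_prod (Invol.mul_self_eq_one (hinv hu)) (Invol.mul_self_eq_one (hinv hv))
    have hx1 : (x : G) ≠ 1 := fun h => hx (Subtype.ext h)
    have huA : u ∈ A := mem_of_invol_normalizer hA ht (hinv hu)
      (hA.mem_normalizer_of_conj_mem x.2 hx1 (hi ▸ inv_mem x.2))
    refine ⟨huA, mem_invs.mpr ⟨Subtype.ext ?_, hx⟩⟩
    rw [hA.comm huA x.2, mul_inv_cancel_right] at hi
    exact mul_eq_one_iff_eq_inv.mpr hi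
  split_ifs with hxT
  · rw [← Finset.card_erase_of_mem hxT]
    refine (Finset.card_bij (fun (y : A) _ => ((y : G), ((y * x : A) : G))) ?_ ?_ ?_).symm
    · intro y hy
      obtain ⟨hne, hy⟩ := Finset.mem_erase.mp hy
      have hyx : y * x ∈ invs A := by
        refine mem_invs.mpr ⟨(omega hA).mul_mem (mem_invs.mp hy).1 (mem_invs.mp hxT).1, fun h => ?_⟩
        exact hne (mul_right_cancel (h.trans (mem_invs.mp hxT).1.symm))
      simp only [Finset.mem_filter, Finset.mem_product, Finset.mem_univ, true_and]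
      refine ⟨⟨hconj _ _ htG (mem_invs_iff_orderOf.mp hy),
        hconj _ _ htG (mem_invs_iff_orderOf.mp hyx)⟩, ?_⟩
      rw [Subgroup.coe_mul, ← mul_assoc, Invol.mul_self_eq_one (mem_invs_iff_orderOf.mp hy), one_mul]
    · intro y _ z _ h
      exact Subtype.ext (congrArg Prod.fst h)
    · rintro ⟨u, v⟩ hp
      simp only [Finset.mem_filter, Finset.mem_product, Finset.mem_univ, true_and] at hp
      obtain ⟨⟨hu, hv⟩, huv⟩ := hp
      have huA := (hpair hu hv huv).1
      refine ⟨⟨u, huA⟩, Finset.mem_erase.mpr ⟨fun h => ?_, mem_invs_iff_orderOf.mpr (hinv hu)⟩, ?_⟩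
      · have : u * v = u * 1 := by rw [huv, mul_one, ← h]
        exact Invol.ne_one_of_invol (hinv hv) (mul_left_cancel this)
      · rw [Subgroup.coe_mul, ← huv, ← mul_assoc, Invol.mul_self_eq_one (hinv hu), one_mul]
  · rw [Finset.card_eq_zero, Finset.filter_eq_empty_iff]
    rintro ⟨u, v⟩ hp h
    simp only [Finset.mem_product, Finset.mem_filter, Finset.mem_univ, true_and] at hp
    exact hxT (hpair hp.1 hp.2 h).2

end Setup

section Exceptional

variable [Fintype G] {A : Subgroup G} [Fintype A] (hA : SelfCent A)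
include hA

/-- The exceptional characters of a self-centralizing subgroup. -/
theorem exists_exceptional :
    ∃ (ε : ℂ) (μ : Orb A → Cfsg.IrrCharacter G), (ε = 1 ∨ ε = -1) ∧ Function.Injective μ ∧
      ∀ l l' : NP A, Cfsg.indFun A (l.1 : A → ℂ) - Cfsg.indFun A (l'.1 : A → ℂ) =
        ε • ((μ (orb A l) : G → ℂ) - (μ (orb A l') : G → ℂ)) := by
  classical
  obtain ⟨l₀⟩ := nonempty_np hA
  let i₀ : Orb A := orb A l₀
  let τ : Orb A → G → ℂ := fun o =>
    Cfsg.indFun A ((Quotient.out o).1 : A → ℂ) - Cfsg.indFun A ((Quotient.out i₀).1 : A → ℂ)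
  have hout : ∀ o : Orb A, orb A (Quotient.out o) = o := fun o => Quotient.out_eq o
  obtain ⟨ε, hε, μ, hμ, hinj, hτ⟩ := CharExc.exists_base i₀ τ (sub_self _)
    (fun o => by
      exact Char.IsGeneralizedCharacter.sub
        (Char.IsCharacter.isGeneralizedCharacter
          (Char.IsCharacter.indFun A (Char.IsIrrCharacter.isCharacter (Quotient.out o).1.2)))
        (Char.IsCharacter.isGeneralizedCharacter
          (Char.IsCharacter.indFun A (Char.IsIrrCharacter.isCharacter (Quotient.out i₀).1.2))))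
    (fun o => by
      show Cfsg.indFun A _ 1 - Cfsg.indFun A _ 1 = 0
      rw [Char.indFun_apply_one, Char.indFun_apply_one, irr_apply_one hA, irr_apply_one hA, sub_self])
    (fun o ho => by
      simp only [τ]
      rw [gram hA, hout, hout, if_pos rfl, if_neg ho, if_neg (Ne.symm ho), if_pos rfl]
      norm_num)
    (fun o o' ho ho' hoo => by
      simp only [τ]
      rw [gram hA, hout, hout, hout, if_neg hoo, if_neg ho, if_neg (Ne.symm ho'), if_pos rfl]
      norm_num)
  have hind : ∀ l : NP A,
      Cfsg.indFun A (l.1 : A → ℂ) = Cfsg.indFun A ((Quotient.out (orb A l)).1 : A → ℂ) := by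
    intro l
    obtain ⟨x, hx⟩ := Quotient.exact (hout (orb A l))
    rw [← indFun_tw hA x (Quotient.out (orb A l)), hx]
  refine ⟨ε, fun o => ⟨μ o, hμ o⟩, hε, fun o o' h => hinj (congrArg Subtype.val h), fun l l' => ?_⟩
  rw [hind l, hind l', show Cfsg.indFun A ((Quotient.out (orb A l)).1 : A → ℂ) -
    Cfsg.indFun A ((Quotient.out (orb A l')).1 : A → ℂ) = τ (orb A l) - τ (orb A l') from
    (sub_sub_sub_cancel_right _ _ _).symm, hτ, hτ, ← smul_sub, sub_sub_sub_cancel_right]

theorem sum_omega_eq_zero {k : NP A} {y₀ : A} (hy₀ : y₀ ∈ omega hA)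
    (hk : (k.1 : A → ℂ) y₀ ≠ 1) [DecidablePred (· ∈ omega hA)] :
    ∑ y ∈ Finset.univ.filter (· ∈ omega hA), (k.1 : A → ℂ) y = 0 := by
  obtain ⟨f, hf⟩ := exists_hom hA k.1
  have h : ∑ y ∈ Finset.univ.filter (· ∈ omega hA), (k.1 : A → ℂ) y =
      (k.1 : A → ℂ) y₀ * ∑ y ∈ Finset.univ.filter (· ∈ omega hA), (k.1 : A → ℂ) y := by
    rw [Finset.mul_sum]
    symm
    refine Finset.sum_bij (fun y _ => y₀ * y) ?_ ?_ ?_ ?_
    · intro y hy
      simp only [Finset.mem_filter, Finset.mem_univ, true_and] at hy ⊢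
      exact mul_mem hy₀ hy
    · intro y _ z _ h
      exact mul_left_cancel h
    · intro y hy
      simp only [Finset.mem_filter, Finset.mem_univ, true_and] at hy
      exact ⟨y₀⁻¹ * y, Finset.mem_filter.mpr ⟨Finset.mem_univ _, mul_mem (inv_mem hy₀) hy⟩,
        mul_inv_cancel_left _ _⟩
    · intro y _
      simp [hf]
  by_contra h0
  exact hk ((mul_eq_right₀ h0).mp h.symm)

end Exceptional

/-- The centralizer of an involution of a simple CA-group has exponent two. -/
theorem card_eq_card_invs_succ [Fintype G] [IsSimpleGroup G] (hne : ¬ IsMulCommutative G)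
    (hconj : ∀ u v : G, orderOf u = 2 → orderOf v = 2 → IsConj u v)
    {A : Subgroup G} [Fintype A] (hA : SelfCent A) {t : A} (ht : t ∈ invs A)
    (hcent : Subgroup.centralizer ({(t : G)} : Set G) = A) (h2 : 2 ≤ (invs A).card) :
    Nat.card A = (invs A).card + 1 := by
  classical
  by_contra hbig
  set a := Nat.card A with ha
  set s := (invs A).card with hs
  let N := Subgroup.normalizer (A : Set G)
  have htG : orderOf (t : G) = 2 := mem_invs_iff_orderOf.mp ht
  -- arithmetic of `a`, `s` and the index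
  have hm : a = s * Fintype.card (Orb A) + 1 := card_A_eq hA hconj ht
  set m := Fintype.card (Orb A) with hmdef
  obtain ⟨c, hc⟩ : s + 1 ∣ a := card_invs_succ_dvd hA
  have hapos : 0 < a := Nat.card_pos
  have hc2 : 2 ≤ c := by
    rcases c with _ | _ | c
    · omega
    · omega
    · omega
  have hcs : s + 1 ≤ c := by
    have hdiv : s ∣ c - 1 := by
      have h3 : (s + 1) * c = s * c + c := by ring
      refine ⟨m - c, ?_⟩
      rw [Nat.mul_sub]
      omega
    have := Nat.le_of_dvd (by omega) hdiv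
    omega
  have hlarge : (s + 1) * (s + 1) ≤ a := hc ▸ Nat.mul_le_mul_left _ hcs
  obtain ⟨j, hj⟩ := index_normalizer_modEq hA hconj ht
  set n := N.index with hn
  have hn1 : 1 < n := by
    have hne1 : n ≠ 1 := by
      intro h
      rw [hn, Subgroup.index_eq_one] at h
      have : A.Normal := Subgroup.normalizer_eq_top_iff.mp h
      rcases Subgroup.Normal.eq_bot_or_eq_top this with h' | h'
      · exact hA.ne_bot h'
      · exact hne ⟨⟨fun x y => hA.comm (h' ▸ Subgroup.mem_top x) (h' ▸ Subgroup.mem_top y)⟩⟩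
    have : n ≠ 0 := Subgroup.index_ne_zero_of_finite
    omega
  have hn2 : a + 1 ≤ n := by
    rcases Nat.lt_or_ge j 2 with hj2 | hj2
    · interval_cases j <;> omega
    · have := Nat.mul_le_mul_right a hj2
      show a + 1 ≤ n
      change n + a = j * a + 1 at hj
      omega
  have hGcard : Nat.card G = n * (a * s) := by
    rw [← card_normalizer hA hconj ht, mul_comm]
    exact (Subgroup.card_mul_index N).symm
  -- two characters of `A`
  let Kf : Finset A := Finset.univ.filter (· ∈ omega hA)
  have hKf : Kf.card = s + 1 := by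
    rw [← card_omega hA, Nat.card_eq_fintype_card, Fintype.card_subtype]
  have hone : (1 : A) ∈ Kf := Finset.mem_filter.mpr ⟨Finset.mem_univ _, one_mem _⟩
  have hKerase : Kf.erase 1 = invs A := by
    ext b
    simp only [Kf, Finset.mem_erase, Finset.mem_filter, Finset.mem_univ, true_and, mem_invs]
    exact and_comm
  obtain ⟨k, hk⟩ : ∃ k : NP A, ∑ y ∈ Kf, (k.1 : A → ℂ) y ≠ 0 := by
    by_contra h
    push Not at h
    have htot : ∑ l : Cfsg.IrrCharacter A, ∑ y ∈ Kf, (l : A → ℂ) y = (a : ℂ) := by
      rw [Finset.sum_comm, Finset.sum_eq_single (1 : A) ?_ (fun h1 => absurd hone h1)]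
      · simp [irr_apply_one hA, ← Nat.card_eq_fintype_card, card_irrA hA, ha]
      · intro y _ hy
        have h := colA hA y 1
        simpa [irr_apply_one hA, hy] using h
    rw [Finset.sum_eq_single Char.principalIrr (fun l _ hl => h ⟨l, hl⟩)
      (fun h1 => absurd (Finset.mem_univ _) h1)] at htot
    simp only [Char.principalIrr_apply, Finset.sum_const, nsmul_eq_mul, mul_one, hKf] at htot
    exact hbig (by exact_mod_cast htot.symm)
  obtain ⟨k', hk'⟩ : ∃ k' : NP A, (k'.1 : A → ℂ) t ≠ 1 := by
    by_contra h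
    push Not at h
    have h' := sum_np_apply hA (b := t) (mem_invs.mp ht).2
    simp only [h, Finset.sum_const, nsmul_eq_mul, mul_one] at h'
    have h'' := congrArg Complex.re h'
    simp at h''
    have : (0 : ℝ) ≤ ((Finset.univ : Finset (NP A)).card : ℝ) := Nat.cast_nonneg _
    rw [Finset.card_univ] at this
    linarith
  have hk'0 : ∑ y ∈ Kf, (k'.1 : A → ℂ) y = 0 := sum_omega_eq_zero hA (mem_invs.mp ht).1 hk'
  set S : ℂ := ∑ y ∈ invs A, ((k.1 : A → ℂ) y - (k'.1 : A → ℂ) y) with hSdef
  have hS : S ≠ 0 := by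
    rw [hSdef, Finset.sum_sub_distrib, ← hKerase, Finset.sum_erase_eq_sub hone,
      Finset.sum_erase_eq_sub hone, hk'0, irr_apply_one hA, irr_apply_one hA]
    simpa using hk
  -- the exceptional characters
  obtain ⟨ε, μ, hε, hinj, hdiff⟩ := exists_exceptional hA
  have hε0 : ε ≠ 0 := by rcases hε with h | h <;> simp [h]
  have hε2 : ε * ε = 1 := by rcases hε with h | h <;> simp [h]
  obtain ⟨X, hXpos, hX⟩ := Char.IsIrrCharacter.exists_degree (μ (orb A k)).2
  have hdeg : ∀ l : NP A, (μ (orb A l) : G → ℂ) 1 = (X : ℂ) := by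
    intro l
    have h := congrFun (hdiff l k) 1
    simp only [Pi.sub_apply, Pi.smul_apply, smul_eq_mul, Char.indFun_apply_one, irr_apply_one hA,
      sub_self] at h
    rw [← hX]
    exact sub_eq_zero.mp ((mul_eq_zero.mp h.symm).resolve_left hε0)
  have hsq : m * X ^ 2 ≤ Nat.card G := by
    choose d _ hd using fun φ : Cfsg.IrrCharacter G => Char.IsIrrCharacter.exists_degree φ.2
    have hdX : ∀ o, d (μ o) = X := by
      intro o
      obtain ⟨l, rfl⟩ := Quotient.exists_rep o
      have h := hd (μ (orb A l))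
      rw [hdeg] at h
      exact_mod_cast h.symm
    have hall : ∑ φ, d φ ^ 2 = Nat.card G := by
      have h := Char.sum_mul_conj (1 : G) 1
      rw [if_pos (IsConj.refl _)] at h
      have hc1 : Subgroup.centralizer ({1} : Set G) = ⊤ := by
        ext z
        simp [Subgroup.mem_centralizer_singleton_iff]
      rw [hc1, Subgroup.card_top] at h
      simp only [hd, map_natCast, ← sq] at h
      exact_mod_cast h
    calc m * X ^ 2 = ∑ φ ∈ Finset.univ.image μ, d φ ^ 2 := by
          rw [Finset.sum_image fun x _ y _ h => hinj h]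
          simp [hdX, hmdef]
      _ ≤ ∑ φ, d φ ^ 2 := Finset.sum_le_sum_of_subset (Finset.subset_univ _)
      _ = _ := hall
  set D := (μ (orb A k) : G → ℂ) t with hD
  set D' := (μ (orb A k') : G → ℂ) t with hD'
  have hane : (a : ℂ) ≠ 0 := Nat.cast_ne_zero.mpr hapos.ne'
  have hDD : D - D' = ε * S := by
    have h := congrFun (hdiff k k') (t : G)
    simp only [Pi.sub_apply, Pi.smul_apply, smul_eq_mul] at h
    rw [indFun_apply_of_mem hA _ (mem_invs.mp ht).2, indFun_apply_of_mem hA _ (mem_invs.mp ht).2,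
      sum_normalizer hA hconj ht, sum_normalizer hA hconj ht, inv_mul_cancel_left₀ hane,
      inv_mul_cancel_left₀ hane, ← Finset.sum_sub_distrib] at h
    rw [hSdef, h, ← mul_assoc, hε2, one_mul]
  -- the class multiplication formula
  set I := (Finset.univ.filter (IsConj (t : G))).card with hI
  have hIa : I * a = Nat.card G := by
    have h := Char.card_isConj_mul_card_centralizer (t : G)
    rw [hcent, Nat.card_eq_fintype_card (α := {x : G // IsConj (t : G) x}),
      Fintype.card_subtype] at h
    exact h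
  let P : A → ℕ := fun x =>
    ((Finset.univ.filter (IsConj (t : G)) ×ˢ Finset.univ.filter (IsConj (t : G))).filter
      (fun p => p.1 * p.2 = (x : G))).card
  let g : A → ℂ := fun x => (k.1 : A → ℂ) x - (k'.1 : A → ℂ) x
  have hg1 : g 1 = 0 := by simp [g, irr_apply_one hA]
  have hL : ∑ x : A, (P x : ℂ) * g x = ((s : ℂ) - 1) * S := by
    rw [hSdef, Finset.mul_sum,
      ← Finset.sum_subset (Finset.subset_univ (invs A)) (fun x _ hx => ?_)]
    · refine Finset.sum_congr rfl fun x hx => ?_
      simp only [P, g]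
      rw [card_pairs_mem hA hconj ht htG (mem_invs.mp hx).2, if_pos hx, Nat.cast_sub (by omega),
        Nat.cast_one]
    · by_cases hx1 : x = 1
      · rw [hx1, hg1, mul_zero]
      · simp only [P]
        rw [card_pairs_mem hA hconj ht htG hx1, if_neg hx, Nat.cast_zero, zero_mul]
  have hcol : ∀ φ : Cfsg.IrrCharacter G, ∑ x : A, g x * conj ((φ : G → ℂ) x) =
      (a : ℂ) * (ε * ((if μ (orb A k) = φ then 1 else 0) - if μ (orb A k') = φ then 1 else 0)) := by
    intro φ
    have h1 : Cfsg.classInner g (fun x : A => (φ : G → ℂ) x) =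
        ε * ((if μ (orb A k) = φ then 1 else 0) - if μ (orb A k') = φ then 1 else 0) := by
      show Cfsg.classInner ((k.1 : A → ℂ) - (k'.1 : A → ℂ)) _ = _
      rw [← Char.classInner_indFun _ _ _ (Char.IsIrrCharacter.isClassFunction φ.2),
        Char.indFun_sub, hdiff, Char.classInner_smul_left, Char.classInner_sub_left,
        Char.classInner_irrCharacter, Char.classInner_irrCharacter]
    rw [← h1, Cfsg.classInner, ← ha, mul_inv_cancel_left₀ hane]
  have hR : ∑ x : A, (P x : ℂ) * g x = (I : ℂ) * I / (Nat.card G : ℂ) *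
      ((a : ℂ) * ε * (D * D / (X : ℂ) - D' * D' / (X : ℂ))) := by
    have hPc : ∀ x : A, (P x : ℂ) = (I : ℂ) * I / (Nat.card G : ℂ) *
        ∑ φ : Cfsg.IrrCharacter G,
          (φ : G → ℂ) t * (φ : G → ℂ) t * conj ((φ : G → ℂ) x) / (φ : G → ℂ) 1 := fun x => by
      convert CharDeep.ClassSum.card_pairs (t : G) t (x : G)
    simp only [hPc]
    simp only [mul_assoc ((I : ℂ) * I / (Nat.card G : ℂ)), ← Finset.mul_sum, Finset.sum_mul]
    congr 1
    rw [Finset.sum_comm]
    have : ∀ φ : Cfsg.IrrCharacter G, ∑ x : A,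
        (φ : G → ℂ) t * (φ : G → ℂ) t * conj ((φ : G → ℂ) x) / (φ : G → ℂ) 1 * g x =
        ((a : ℂ) * ε * (if μ (orb A k) = φ then
          (φ : G → ℂ) t * (φ : G → ℂ) t / (φ : G → ℂ) 1 else 0)) -
        ((a : ℂ) * ε * (if μ (orb A k') = φ then
          (φ : G → ℂ) t * (φ : G → ℂ) t / (φ : G → ℂ) 1 else 0)) := by
      intro φ
      calc _ = (φ : G → ℂ) t * (φ : G → ℂ) t / (φ : G → ℂ) 1 *
            ∑ x : A, g x * conj ((φ : G → ℂ) x) := by
            rw [Finset.mul_sum]
            exact Finset.sum_congr rfl fun x _ => by ring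
        _ = _ := by
            rw [hcol]
            split_ifs <;> ring
    rw [Finset.sum_congr rfl fun φ _ => this φ, Finset.sum_sub_distrib, ← Finset.mul_sum,
      ← Finset.mul_sum, Finset.sum_ite_eq, Finset.sum_ite_eq, if_pos (Finset.mem_univ _),
      if_pos (Finset.mem_univ _), hdeg, hdeg, ← hD, ← hD', mul_sub]
  have hXne : (X : ℂ) ≠ 0 := Nat.cast_ne_zero.mpr hXpos.ne'
  have hGne : (Nat.card G : ℂ) ≠ 0 := Nat.cast_ne_zero.mpr Nat.card_pos.ne'
  have hIne : (I : ℂ) ≠ 0 := by
    refine Nat.cast_ne_zero.mpr fun h => ?_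
    rw [h, zero_mul] at hIa
    exact Nat.card_pos.ne hIa
  have hIaC : (I : ℂ) * a = (Nat.card G : ℂ) := by exact_mod_cast hIa
  have hJ : (D + D') * (Nat.card G : ℂ) = ((s : ℂ) - 1) * a * X := by
    have h := hL.symm.trans hR
    field_simp at h
    refine mul_left_cancel₀ (mul_ne_zero hS hIne) ?_
    rw [← hIaC] at h ⊢
    linear_combination (-1 : ℂ) * h - (D + D') * (I : ℂ) * I * a * ε * hDD -
      (D + D') * (I : ℂ) * I * a * S * hε2
  obtain ⟨z, hz⟩ : ∃ z : ℤ, ((((s - 1) * a * X : ℕ) : ℚ) / (Nat.card G : ℚ)) = z := by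
    suffices h : IsIntegral ℤ ((((((s - 1) * a * X : ℕ) : ℚ) / (Nat.card G : ℚ)) : ℚ) : ℂ) from
      (Char.exists_int_of_isIntegral_ratCast h).imp fun z hz => hz.symm
    have : (((((s - 1) * a * X : ℕ) : ℚ) / (Nat.card G : ℚ) : ℚ) : ℂ) = D + D' := by
      push_cast [Nat.cast_sub (show 1 ≤ s by omega)]
      rw [div_eq_iff hGne, hJ]
    rw [this]
    exact IsIntegral.add
      (Char.IsGeneralizedCharacter.isIntegral_apply
        (Char.IsIrrCharacter.isGeneralizedCharacter (μ (orb A k)).2) _)
      (Char.IsGeneralizedCharacter.isIntegral_apply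
        (Char.IsIrrCharacter.isGeneralizedCharacter (μ (orb A k')).2) _)
  have hle : Nat.card G ≤ (s - 1) * a * X := by
    by_contra hlt
    push Not at hlt
    have hposQ : (0 : ℚ) < (((s - 1) * a * X : ℕ) : ℚ) := by
      exact_mod_cast Nat.mul_pos (Nat.mul_pos (by omega) hapos) hXpos
    have hGQ : (0 : ℚ) < (Nat.card G : ℚ) := by exact_mod_cast Nat.card_pos
    have hlt' : (((s - 1) * a * X : ℕ) : ℚ) < (Nat.card G : ℚ) := by exact_mod_cast hlt
    have h0 : (0 : ℚ) < z := hz ▸ div_pos hposQ hGQ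
    have h1 : (z : ℚ) < 1 := hz ▸ (div_lt_one hGQ).mpr hlt'
    norm_cast at h0 h1
    omega
  have hnX : n < X := by
    rw [hGcard] at hle
    obtain ⟨p, hp⟩ : ∃ p, s = p + 1 := ⟨s - 1, by omega⟩
    rw [hp, Nat.add_sub_cancel] at hle
    by_contra hXn
    push Not at hXn
    have h1 := Nat.mul_le_mul_left (p * a) hXn
    have h2 : n * (a * (p + 1)) = p * a * n + n * a := by ring
    have h3 : 0 < n * a := Nat.mul_pos (by omega) hapos
    omega
  have hmpos : 0 < m := Fintype.card_pos_iff.mpr ⟨orb A k⟩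
  have hfin : m * n < a * s := by
    rw [hGcard] at hsq
    by_contra h
    push Not at h
    have h1 : m * n ^ 2 < m * X ^ 2 :=
      Nat.mul_lt_mul_of_pos_left (Nat.pow_lt_pow_left hnX (by norm_num)) hmpos
    have h2 := Nat.mul_le_mul_left n h
    have h3 : n * (m * n) = m * n ^ 2 := by ring
    omega
  have h1 : m * (a + 1) < a * s := lt_of_le_of_lt (Nat.mul_le_mul_left m hn2) hfin
  have h1' : s * (m * (a + 1)) < s * (a * s) := Nat.mul_lt_mul_of_pos_left h1 (by omega)
  have h3 : s * (m * (a + 1)) + (a + 1) = a * a + a := by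
    calc s * (m * (a + 1)) + (a + 1) = (s * m + 1) * (a + 1) := by ring
      _ = a * (a + 1) := by rw [← hm]
      _ = a * a + a := by ring
  have h4 : a * (s * s) + a ≤ a * a := by
    calc a * (s * s) + a = a * (s * s + 1) := by ring
      _ ≤ a * ((s + 1) * (s + 1)) := Nat.mul_le_mul_left _ (by nlinarith)
      _ ≤ a * a := Nat.mul_le_mul_left _ hlarge
  have h5 : s * (a * s) = a * (s * s) := by ring
  omega

end CfsgLib.CA.Even
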