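import Mathlib.GroupTheory.Index
import Mathlib.GroupTheory.OrderOfElement
import Mathlib.Algebra.BigOperators.GroupWithZero.Finset
import Mathlib.Algebra.BigOperators.Ring.Finset
import Mathlib.Algebra.Ring.Basic

/-!
# Subgroups equal to the centralizer of each of their nonidentity elements
-/

set_option autoImplicit false

namespace CfsgLib.CA

variable {G : Type*} [Group G]

/-- `A` is nontrivial and is the centralizer of each of its nonidentity elements. -/
structure SelfCent (A : Subgroup G) : Prop where
  ne_bot : A ≠ ⊥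
  centralizer_eq : ∀ x ∈ A, x ≠ 1 → Subgroup.centralizer ({x} : Set G) = A

namespace SelfCent

variable {A : Subgroup G}

theorem comm (hA : SelfCent A) {a b : G} (ha : a ∈ A) (hb : b ∈ A) : a * b = b * a := by
  by_cases h1 : a = 1
  · rw [h1, one_mul, mul_one]
  · have h : b ∈ Subgroup.centralizer ({a} : Set G) := by rw [hA.centralizer_eq a ha h1]; exact hb
    exact (Subgroup.mem_centralizer_singleton_iff.mp h).symm

theorem exists_ne_one (hA : SelfCent A) : ∃ a ∈ A, a ≠ (1 : G) := by
  by_contra h
  push Not at h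
  exact hA.ne_bot (eq_bot_iff.mpr fun a ha => Subgroup.mem_bot.mpr (h a ha))

theorem mem_of_commute (hA : SelfCent A) {a g : G} (ha : a ∈ A) (ha1 : a ≠ 1)
    (h : g * a = a * g) : g ∈ A := by
  rw [← hA.centralizer_eq a ha ha1, Subgroup.mem_centralizer_singleton_iff]
  exact h

/-- The subgroup is a trivial intersection set. -/
theorem mem_normalizer_of_conj_mem (hA : SelfCent A) {g x : G} (hx : x ∈ A) (hx1 : x ≠ 1)
    (hgx : g * x * g⁻¹ ∈ A) : g ∈ Subgroup.normalizer (A : Set G) := by
  rw [Subgroup.mem_normalizer_iff]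
  intro a
  have hy : g * x * g⁻¹ ≠ 1 := fun h => hx1 (conj_eq_one_iff.mp h)
  have h1 : a ∈ A ↔ a ∈ Subgroup.centralizer ({x} : Set G) := by rw [hA.centralizer_eq x hx hx1]
  have h2 : g * a * g⁻¹ ∈ A ↔ g * a * g⁻¹ ∈ Subgroup.centralizer ({g * x * g⁻¹} : Set G) := by
    rw [hA.centralizer_eq _ hgx hy]
  rw [h1, h2, Subgroup.mem_centralizer_singleton_iff, Subgroup.mem_centralizer_singleton_iff,
    conj_mul, conj_mul, mul_left_inj, mul_right_inj]

theorem map_conj (hA : SelfCent A) (g : G) : SelfCent (A.map (MulAut.conj g).toMonoidHom) := by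
  refine ⟨?_, ?_⟩
  · rw [Ne, Subgroup.map_eq_bot_iff_of_injective _ (MulAut.conj g).injective]
    exact hA.ne_bot
  · rintro _ ⟨x, hx, rfl⟩ h1
    have hx1 : x ≠ 1 := fun h => h1 (by rw [h, map_one])
    ext y
    rw [Subgroup.mem_centralizer_singleton_iff, Subgroup.mem_map]
    simp only [MulEquiv.coe_toMonoidHom, MulAut.conj_apply]
    constructor
    · intro h
      refine ⟨g⁻¹ * y * g, hA.mem_of_commute hx hx1 ?_, by simp [mul_assoc]⟩
      have := congrArg (fun z => g⁻¹ * z * g) h
      simpa [mul_assoc] using this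
    · rintro ⟨b, hb, rfl⟩
      have := congrArg (fun z => g * z * g⁻¹) (hA.comm hb hx)
      simpa [mul_assoc] using this

end SelfCent

/-- In a CA-group every centralizer of a nonidentity element is self-centralizing. -/
theorem selfCent_centralizer
    (hCA : ∀ x : G, x ≠ 1 → ∀ a ∈ Subgroup.centralizer ({x} : Set G),
      ∀ b ∈ Subgroup.centralizer ({x} : Set G), a * b = b * a)
    {x : G} (hx : x ≠ 1) : SelfCent (Subgroup.centralizer ({x} : Set G)) := by
  have hxm : x ∈ Subgroup.centralizer ({x} : Set G) := Subgroup.mem_centralizer_singleton_iff.mpr rfl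
  refine ⟨fun h => hx (Subgroup.mem_bot.mp (h ▸ hxm)), fun a ha ha1 => le_antisymm ?_ ?_⟩
  · intro y hy
    have hxa : x ∈ Subgroup.centralizer ({a} : Set G) :=
      Subgroup.mem_centralizer_singleton_iff.mpr (Subgroup.mem_centralizer_singleton_iff.mp ha).symm
    exact Subgroup.mem_centralizer_singleton_iff.mpr (hCA a ha1 y hy x hxa)
  · intro y hy
    exact Subgroup.mem_centralizer_singleton_iff.mpr (hCA x hx y hy a ha)

section Reps

variable (G)

/-- Conjugacy of self-centralizing subgroups. -/
def conjSetoid : Setoid {A : Subgroup G // SelfCent A} where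
  r A B := ∃ g : G, (A : Subgroup G).map (MulAut.conj g).toMonoidHom = B
  iseqv :=
    { refl := fun A => ⟨1, by ext; simp⟩
      symm := fun {A B} ⟨g, h⟩ => ⟨g⁻¹, by
        rw [← h, Subgroup.map_map]
        ext x
        simp [Subgroup.mem_map, mul_assoc]⟩
      trans := fun {A B C} ⟨g, h⟩ ⟨k, h'⟩ => ⟨k * g, by
        rw [← h', ← h, Subgroup.map_map]
        congr 1
        ext x
        simp [mul_assoc]⟩ }

/-- The conjugacy classes of self-centralizing subgroups. -/
abbrev ClassIdx : Type _ := Quotient (conjSetoid G)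

noncomputable instance instFintypeClassIdx [Finite G] : Fintype (ClassIdx G) :=
  haveI : Finite (Subgroup G) :=
    Finite.of_injective (fun A => (A : Set G)) SetLike.coe_injective
  haveI : Finite (ClassIdx G) := Finite.of_surjective (Quotient.mk _) Quotient.mk_surjective
  Fintype.ofFinite _

variable {G}

/-- A chosen representative of a class. -/
noncomputable def rep (i : ClassIdx G) : Subgroup G := (Quotient.out i).1

theorem rep_selfCent (i : ClassIdx G) : SelfCent (rep i) := (Quotient.out i).2

/-- The elements of conjugates of the representative of `i`. -/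
def InClass (i : ClassIdx G) (z : G) : Prop := ∃ y : G, y⁻¹ * z * y ∈ rep i

theorem exists_inClass
    (hCA : ∀ x : G, x ≠ 1 → ∀ a ∈ Subgroup.centralizer ({x} : Set G),
      ∀ b ∈ Subgroup.centralizer ({x} : Set G), a * b = b * a)
    {z : G} (hz : z ≠ 1) : ∃ i, InClass i z := by
  let A : {A : Subgroup G // SelfCent A} := ⟨_, selfCent_centralizer hCA hz⟩
  refine ⟨Quotient.mk _ A, ?_⟩
  obtain ⟨g, hg⟩ := Quotient.exact (s := conjSetoid G) (Quotient.out_eq (Quotient.mk _ A))
  have hz' : z ∈ (rep (Quotient.mk _ A)).map (MulAut.conj g).toMonoidHom := by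
    unfold rep
    rw [hg]
    exact Subgroup.mem_centralizer_singleton_iff.mpr rfl
  obtain ⟨b, hb, rfl⟩ := hz'
  exact ⟨g, by simpa [mul_assoc] using hb⟩

theorem inClass_unique {z : G} (hz : z ≠ 1) {i j : ClassIdx G} (hi : InClass i z)
    (hj : InClass j z) : i = j := by
  obtain ⟨y, hy⟩ := hi
  obtain ⟨w, hw⟩ := hj
  rw [← Quotient.out_eq i, ← Quotient.out_eq j]
  refine Quotient.sound ⟨w⁻¹ * y, ?_⟩
  have hne : ∀ u : G, u⁻¹ * z * u ≠ 1 := fun u h => hz (by
    have := congrArg (fun t => u * t * u⁻¹) h
    simpa [mul_assoc] using this)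
  have hA := (rep_selfCent i).map_conj (w⁻¹ * y)
  have hB := rep_selfCent j
  have hmem : w⁻¹ * z * w ∈ (rep i).map (MulAut.conj (w⁻¹ * y)).toMonoidHom :=
    ⟨y⁻¹ * z * y, hy, by simp [mul_assoc]⟩
  exact (hA.centralizer_eq _ hmem (hne w)).symm.trans (hB.centralizer_eq _ hw (hne w))

variable [Fintype G]

open Classical in
/-- The nonidentity elements of the representative, as a finset. -/
noncomputable def repSharp (i : ClassIdx G) : Finset G :=
  Finset.univ.filter fun b => b ∈ rep i ∧ b ≠ 1

/-- The class equation: a class function summed over the nonidentity elements. -/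
theorem sum_classes {R : Type*} [Ring R]
    (hCA : ∀ x : G, x ≠ 1 → ∀ a ∈ Subgroup.centralizer ({x} : Set G),
      ∀ b ∈ Subgroup.centralizer ({x} : Set G), a * b = b * a)
    [DecidableEq G] (f : G → R) (hf : ∀ g h : G, f (h * g * h⁻¹) = f g) :
    ∑ z ∈ Finset.univ.erase (1 : G), f z =
      ∑ i : ClassIdx G, ((Subgroup.normalizer (rep i : Set G)).index : R) *
        ∑ b ∈ repSharp i, f b := by
  classical
  choose cls hcls using fun z : {z : G // z ≠ 1} => exists_inClass hCA z.2
  have hper : ∀ i : ClassIdx G, ∑ z ∈ (Finset.univ.erase (1 : G)).filter (fun z => InClass i z),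
      f z = ((Subgroup.normalizer (rep i : Set G)).index : R) * ∑ b ∈ repSharp i, f b := by
    intro i
    set N := Subgroup.normalizer (rep i : Set G) with hN
    have : Fintype (G ⧸ N) := Fintype.ofFinite _
    rw [Subgroup.index, Nat.card_eq_fintype_card, ← nsmul_eq_mul, ← Finset.card_univ,
      ← Finset.sum_const, ← Finset.sum_product']
    symm
    refine Finset.sum_bij (fun p _ => p.1.out * p.2 * p.1.out⁻¹) ?_ ?_ ?_ ?_
    · intro p hp
      simp only [Finset.mem_product, Finset.mem_univ, true_and, repSharp, Finset.mem_filter] at hp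
      simp only [Finset.mem_filter, Finset.mem_erase, Finset.mem_univ, and_true]
      exact ⟨fun h => hp.2 (conj_eq_one_iff.mp h), p.1.out, by simpa [mul_assoc] using hp.1⟩
    · intro p hp q hq h
      simp only [Finset.mem_product, Finset.mem_univ, true_and, repSharp, Finset.mem_filter] at hp hq
      have hg : q.1.out⁻¹ * p.1.out ∈ N := by
        refine (rep_selfCent i).mem_normalizer_of_conj_mem hp.1 hp.2 ?_
        have := congrArg (fun t => q.1.out⁻¹ * t * q.1.out) h
        simp only [mul_assoc] at this ⊢
        simp only [mul_inv_rev, inv_inv, inv_mul_cancel_left, inv_mul_cancel, mul_one] at this ⊢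
        rw [this]
        exact hq.1
      have h1 : p.1 = q.1 := by
        rw [← QuotientGroup.out_eq' p.1, ← QuotientGroup.out_eq' q.1]
        exact (QuotientGroup.eq.mpr hg).symm
      refine Prod.ext h1 ?_
      simp only [h1] at h
      exact mul_left_cancel (mul_right_cancel h)
    · intro z hz
      simp only [Finset.mem_filter, Finset.mem_erase, Finset.mem_univ, and_true] at hz
      obtain ⟨hz1, y, hy⟩ := hz
      set q : G ⧸ N := QuotientGroup.mk y
      have hn : y⁻¹ * q.out ∈ N := QuotientGroup.eq.mp (QuotientGroup.out_eq' q).symm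
      refine ⟨(q, q.out⁻¹ * z * q.out), ?_, by simp [mul_assoc]⟩
      simp only [Finset.mem_product, Finset.mem_univ, true_and, repSharp, Finset.mem_filter]
      refine ⟨?_, fun h => hz1 ?_⟩
      · have := (Subgroup.mem_normalizer_iff''.mp hn (y⁻¹ * z * y)).mp hy
        simpa [mul_assoc] using this
      · have := congrArg (fun t => q.out * t * q.out⁻¹) h
        simpa [mul_assoc] using this
    · intro p _
      exact (hf _ _).symm
  rw [← Finset.sum_congr rfl fun i _ => hper i]
  rw [Finset.sum_comm' (s' := fun z => Finset.univ.filter (fun i => InClass i z))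
    (t' := Finset.univ.erase (1 : G)) (by intro x y; simp [and_comm])]
  refine Finset.sum_congr rfl fun z hz => ?_
  have hz1 : z ≠ 1 := (Finset.mem_erase.mp hz).1
  have : Finset.univ.filter (fun i => InClass i z) = {cls ⟨z, hz1⟩} := by
    ext i
    simp only [Finset.mem_filter, Finset.mem_univ, true_and, Finset.mem_singleton]
    exact ⟨fun h => inClass_unique hz1 h (hcls ⟨z, hz1⟩), fun h => h ▸ hcls ⟨z, hz1⟩⟩
  rw [this, Finset.sum_singleton]

end Reps

end CfsgLib.CA
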