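import Cfsg.Agent.Lib.CA.Basic
import Cfsg.Agent.Lib.Char.Exceptional
import Cfsg.Agent.Lib.Char.Twist
import Cfsg.Agent.Lib.Char.Induced
import Cfsg.Agent.Lib.Char.Linear
import Cfsg.Agent.S0194

/-!
# The exceptional characters attached to a self-centralizing subgroup of a group of odd order
-/

set_option autoImplicit false

open scoped ComplexConjugate

namespace CfsgLib.CA

universe u

variable {G : Type u} [Group G]

/-- The complex conjugate of an irreducible character. -/
def conjIrr [Finite G] (φ : Cfsg.IrrCharacter G) : Cfsg.IrrCharacter G :=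
  ⟨fun g => conj ((φ : G → ℂ) g), CharTwist.isIrrCharacter_conj φ.2⟩

theorem conjIrr_apply [Finite G] (φ : Cfsg.IrrCharacter G) (g : G) :
    (conjIrr φ : G → ℂ) g = conj ((φ : G → ℂ) g) := rfl

theorem conjIrr_conjIrr [Finite G] (φ : Cfsg.IrrCharacter G) : conjIrr (conjIrr φ) = φ := by
  apply Subtype.ext
  funext g
  simp [conjIrr_apply]

/-- In a group of odd order only the principal character equals its conjugate. -/
theorem eq_principal_of_conjIrr_eq [Fintype G] (hodd : Odd (Nat.card G))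
    (φ : Cfsg.IrrCharacter G) (h : conjIrr φ = φ) : φ = Char.principalIrr := by
  apply Subtype.ext
  rw [Cfsg.Agent.S0194.eq_one_of_real hodd (φ : G → ℂ) φ.2
    (fun x => congrFun (congrArg Subtype.val h) x)]
  rfl

open Classical in
/-- The nonidentity elements of a subgroup. -/
noncomputable def sharp [Fintype G] (A : Subgroup G) : Finset G :=
  Finset.univ.filter fun b => b ∈ A ∧ b ≠ 1

theorem mem_sharp [Fintype G] {A : Subgroup G} {b : G} : b ∈ sharp A ↔ b ∈ A ∧ b ≠ 1 := by
  classical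
  simp [sharp]

variable (A : Subgroup G)

/-- Conjugation of `A` by an element of its normalizer. -/
def conjA (x : Subgroup.normalizer (A : Set G)) : A ≃* A where
  toFun b := ⟨(x : G) * b * (x : G)⁻¹, (Subgroup.mem_normalizer_iff.mp x.2 b).mp b.2⟩
  invFun b := ⟨(x : G)⁻¹ * b * (x : G), (Subgroup.mem_normalizer_iff''.mp x.2 b).mp b.2⟩
  left_inv b := Subtype.ext (by simp [mul_assoc])
  right_inv b := Subtype.ext (by simp [mul_assoc])
  map_mul' b c := Subtype.ext (by simp [mul_assoc])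

theorem conjA_coe (x : Subgroup.normalizer (A : Set G)) (b : A) :
    ((conjA A x b : A) : G) = (x : G) * b * (x : G)⁻¹ := rfl

/-- The nonprincipal irreducible characters of `A`. -/
abbrev NP : Type u := {l : Cfsg.IrrCharacter A // l ≠ Char.principalIrr}

/-- Twisting by an element of the normalizer. -/
def tw (x : Subgroup.normalizer (A : Set G)) (l : NP A) : NP A :=
  ⟨⟨(l.1 : A → ℂ) ∘ conjA A x, CharTwist.isIrrCharacter_comp_equiv l.1.2 _⟩, fun h => l.2 (by
    apply Subtype.ext
    funext b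
    have := congrFun (congrArg Subtype.val h) ((conjA A x).symm b)
    simpa using this)⟩

theorem tw_apply (x : Subgroup.normalizer (A : Set G)) (l : NP A) (b : A) :
    ((tw A x l).1 : A → ℂ) b = (l.1 : A → ℂ) (conjA A x b) := rfl

theorem tw_mul (x y : Subgroup.normalizer (A : Set G)) (l : NP A) :
    tw A (x * y) l = tw A y (tw A x l) := by
  refine Subtype.ext (Subtype.ext (funext fun b => ?_))
  rw [tw_apply, tw_apply, tw_apply]
  exact congrArg _ (Subtype.ext (by simp [conjA_coe, mul_assoc]))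

theorem tw_one (l : NP A) : tw A 1 l = l := by
  refine Subtype.ext (Subtype.ext (funext fun b => ?_))
  rw [tw_apply]
  exact congrArg _ (Subtype.ext (by simp [conjA_coe]))

/-- Twist-equivalence of characters of `A`. -/
def orbSetoid : Setoid (NP A) where
  r l m := ∃ x, tw A x l = m
  iseqv :=
    { refl := fun l => ⟨1, tw_one A l⟩
      symm := fun {l m} ⟨x, h⟩ => ⟨x⁻¹, by rw [← h, ← tw_mul, mul_inv_cancel, tw_one]⟩
      trans := fun {l m k} ⟨x, h⟩ ⟨y, h'⟩ => ⟨x * y, by rw [tw_mul, h, h']⟩ }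

/-- The orbits of nonprincipal characters of `A` under the normalizer. -/
abbrev Orb : Type u := Quotient (orbSetoid A)

/-- The orbit of a character. -/
abbrev orb (l : NP A) : Orb A := Quotient.mk (orbSetoid A) l

variable {A}

/-- The complex conjugate in the nonprincipal characters. -/
def conjNP [Finite G] (l : NP A) : NP A :=
  ⟨conjIrr l.1, fun h => l.2 (by
    rw [← conjIrr_conjIrr l.1, h]
    exact Subtype.ext (funext fun b => by simp [conjIrr_apply]))⟩

variable (hA : SelfCent A)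
include hA

theorem exists_hom (l : Cfsg.IrrCharacter A) [Finite G] :
    ∃ f : A →* ℂˣ, ∀ b, (l : A → ℂ) b = (f b : ℂ) := by
  obtain ⟨n, ρ, hρ, hρl⟩ := l.2
  have : IsMulCommutative A := ⟨⟨fun a b => Subtype.ext (hA.comm a.2 b.2)⟩⟩
  refine Char.IsCharacter.exists_linear ⟨n, ρ, hρl⟩ ?_
  rw [← hρl, Representation.char_one,
    Representation.IsIrreducible.finrank_eq_one_of_isMulCommutative ρ, Nat.cast_one]

theorem irr_apply_one [Finite G] (l : Cfsg.IrrCharacter A) : (l : A → ℂ) 1 = 1 := by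
  obtain ⟨f, hf⟩ := exists_hom hA l
  simp [hf]

theorem tw_eq_self_iff [Finite G] (x : Subgroup.normalizer (A : Set G)) (l : NP A) :
    tw A x l = l ↔ (x : G) ∈ A := by
  constructor
  · intro h
    by_contra hx
    obtain ⟨f, hf⟩ := exists_hom hA l.1
    let k : A → A := fun b => b⁻¹ * conjA A x b
    have hk : Function.Surjective k := by
      refine Finite.injective_iff_surjective.mp fun b c hbc => ?_
      have hbc' : (b : G)⁻¹ * ((x : G) * b * (x : G)⁻¹) = (c : G)⁻¹ * ((x : G) * c * (x : G)⁻¹) :=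
        congrArg Subtype.val hbc
      by_contra hne
      have hne' : (c : G) * (b : G)⁻¹ ≠ 1 := fun hh =>
        hne (Subtype.ext (mul_inv_eq_one.mp hh).symm)
      refine hx (hA.mem_of_commute (A.mul_mem c.2 (A.inv_mem b.2)) hne' ?_)
      have h1 : (c : G) * (b : G)⁻¹ = ((x : G) * c * (x : G)⁻¹) * ((x : G) * b * (x : G)⁻¹)⁻¹ := by
        have hc' : (x : G) * c * (x : G)⁻¹ = (c : G) * ((b : G)⁻¹ * ((x : G) * b * (x : G)⁻¹)) := by
          rw [hbc', mul_inv_cancel_left]
        rw [hc']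
        simp [mul_assoc]
      calc (x : G) * ((c : G) * (b : G)⁻¹)
          = ((x : G) * c * (x : G)⁻¹) * ((x : G) * b * (x : G)⁻¹)⁻¹ * x := by simp [mul_assoc]
        _ = (c : G) * (b : G)⁻¹ * x := by rw [← h1]
    refine l.2 (Subtype.ext (funext fun b => ?_))
    obtain ⟨c, rfl⟩ := hk b
    have h2 := congrFun (congrArg (fun m : NP A => (m.1 : A → ℂ)) h) c
    simp only [tw_apply, hf] at h2
    rw [hf, Char.principalIrr_apply]
    show ((f (c⁻¹ * conjA A x c) : ℂˣ) : ℂ) = 1
    rw [map_mul, map_inv, Units.ext h2, inv_mul_cancel, Units.val_one]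
  · intro hx
    refine Subtype.ext (Subtype.ext (funext fun b => ?_))
    rw [tw_apply]
    refine congrArg _ (Subtype.ext ?_)
    rw [conjA_coe, hA.comm hx b.2, mul_inv_cancel_right]

variable [Fintype G] [Fintype A]

theorem colA (b c : A) [Decidable (b = c)] :
    ∑ l : Cfsg.IrrCharacter A, (l : A → ℂ) b * conj ((l : A → ℂ) c) =
      if b = c then (Nat.card A : ℂ) else 0 := by
  classical
  rw [Char.sum_mul_conj]
  have hiff : IsConj b c ↔ b = c := by
    refine ⟨fun h => ?_, fun h => h ▸ IsConj.refl b⟩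
    obtain ⟨d, rfl⟩ := isConj_iff.mp h
    refine Subtype.ext ?_
    push_cast
    rw [hA.comm d.2 b.2, mul_inv_cancel_right]
  have hcent : Subgroup.centralizer ({b} : Set A) = ⊤ := by
    ext d
    simp only [Subgroup.mem_top, iff_true, Subgroup.mem_centralizer_singleton_iff]
    exact Subtype.ext (hA.comm d.2 b.2)
  rw [hcent, Subgroup.card_top]
  simp only [hiff]

theorem card_irrA : Nat.card (Cfsg.IrrCharacter A) = Nat.card A := by
  classical
  have h := colA hA 1 1
  simp only [if_true, irr_apply_one hA, map_one, mul_one, Finset.sum_const, nsmul_eq_mul] at h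
  rw [Nat.card_eq_fintype_card, ← Finset.card_univ]
  exact_mod_cast h

theorem sum_np_apply {b : A} (hb : b ≠ 1) [DecidableEq (Cfsg.IrrCharacter A)] :
    ∑ l : NP A, (l.1 : A → ℂ) b = -1 := by
  classical
  have h := colA hA b 1
  rw [if_neg hb] at h
  simp only [irr_apply_one hA, map_one, mul_one] at h
  rw [← Finset.add_sum_erase _ _ (Finset.mem_univ Char.principalIrr), Char.principalIrr_apply] at h
  rw [← Finset.sum_subtype (Finset.univ.erase Char.principalIrr) (by simp)
    (fun l : Cfsg.IrrCharacter A => (l : A → ℂ) b)]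
  linear_combination h

theorem sum_np_mul {b c : A} [DecidableEq (Cfsg.IrrCharacter A)] [Decidable (b = c)] :
    ∑ l : NP A, (l.1 : A → ℂ) b * conj ((l.1 : A → ℂ) c) =
      (if b = c then (Nat.card A : ℂ) else 0) - 1 := by
  classical
  rw [← colA hA b c, ← Finset.add_sum_erase _ _ (Finset.mem_univ Char.principalIrr),
    Char.principalIrr_apply, Char.principalIrr_apply, map_one, mul_one,
    ← Finset.sum_subtype (Finset.univ.erase Char.principalIrr) (by simp)
      (fun l : Cfsg.IrrCharacter A => (l : A → ℂ) b * conj ((l : A → ℂ) c))]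
  ring

omit [Fintype A] in
theorem card_twisting [DecidableEq (NP A)] [Fintype (Subgroup.normalizer (A : Set G))]
    {l m : NP A} [Decidable (∃ x, tw A x l = m)] :
    (Finset.univ.filter fun x => tw A x l = m).card =
      if ∃ x, tw A x l = m then Nat.card A else 0 := by
  classical
  split_ifs with h
  · obtain ⟨x₀, hx₀⟩ := h
    rw [← Fintype.card_subtype, ← Nat.card_eq_fintype_card]
    have hAN : ∀ b : A, (b : G) ∈ Subgroup.normalizer (A : Set G) := fun b =>
      Subgroup.le_normalizer b.2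
    refine Nat.card_congr
      { toFun := fun x => ⟨(x.1 * x₀⁻¹ : Subgroup.normalizer (A : Set G)),
          (tw_eq_self_iff hA _ l).mp (by
            rw [tw_mul, x.2, ← hx₀, ← tw_mul, mul_inv_cancel, tw_one])⟩
        invFun := fun b => ⟨⟨b, hAN b⟩ * x₀, by
          rw [tw_mul, (tw_eq_self_iff hA ⟨(b : G), hAN b⟩ l).mpr b.2, hx₀]⟩
        left_inv := fun x => Subtype.ext (by ext; simp)
        right_inv := fun b => Subtype.ext (by simp) }
  · rw [Finset.card_eq_zero, Finset.filter_eq_empty_iff]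
    exact fun x _ hx => h ⟨x, hx⟩

/-- `|A| [l ~ m] = #{x ∈ N | tw x l = m}`. -/
theorem card_mul_orb_eq [DecidableEq (NP A)] [Fintype (Subgroup.normalizer (A : Set G))]
    [DecidableEq (Orb A)] (l m : NP A) :
    (Nat.card A : ℂ) * (if orb A l = orb A m then 1 else 0) =
      ∑ x : Subgroup.normalizer (A : Set G), if tw A x l = m then (1 : ℂ) else 0 := by
  classical
  rw [Finset.sum_boole, card_twisting hA]
  have hiff : orb A l = orb A m ↔ ∃ x, tw A x l = m :=
    ⟨fun h => Quotient.exact h, fun h => Quotient.sound h⟩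
  by_cases h : ∃ x, tw A x l = m
  · simp [h, hiff.mpr h]
  · simp [h, mt hiff.mp h]

omit [Fintype A] in
/-- Values of an induced function on `A`. -/
theorem indFun_apply_of_mem [Fintype (Subgroup.normalizer (A : Set G))] (θ : A → ℂ) {b : A}
    (hb : b ≠ 1) :
    Cfsg.indFun A θ b = (Nat.card A : ℂ)⁻¹ *
      ∑ x : Subgroup.normalizer (A : Set G), θ (conjA A x b) := by
  classical
  rw [Char.indFun_apply]
  congr 1
  symm
  refine Finset.sum_of_injOn (fun x => ((x : G))⁻¹) ?_ (by simp) ?_ ?_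
  · intro x _ y _ h
    exact Subtype.ext (inv_injective h)
  · intro y _ hy
    by_cases hmem : y⁻¹ * (b : G) * y ∈ A
    · exfalso
      refine hy ⟨⟨y⁻¹, ?_⟩, by simp, by simp⟩
      refine hA.mem_normalizer_of_conj_mem b.2 (fun h => hb (Subtype.ext h)) ?_
      simpa using hmem
    · exact Char.extendByZero_of_notMem A θ hmem
  · intro x _
    have hmem : ((x : G)⁻¹)⁻¹ * (b : G) * (x : G)⁻¹ ∈ A := by
      rw [inv_inv]; exact (conjA A x b).2
    rw [Char.extendByZero_apply_mem A θ hmem]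
    exact congrArg θ (Subtype.ext (by simp [conjA_coe]))

omit [Fintype A] in
/-- Induction is constant on twist orbits. -/
theorem indFun_tw (x : Subgroup.normalizer (A : Set G)) (l : NP A) :
    Cfsg.indFun A ((tw A x l).1 : A → ℂ) = Cfsg.indFun A (l.1 : A → ℂ) := by
  funext g
  rw [Char.indFun_apply, Char.indFun_apply]
  congr 1
  refine Fintype.sum_equiv (Equiv.mulRight (x : G)⁻¹) _ _ fun y => ?_
  have hiff := Subgroup.mem_normalizer_iff.mp x.2 (y⁻¹ * g * y)
  have he : ((Equiv.mulRight (x : G)⁻¹) y)⁻¹ * g * (Equiv.mulRight (x : G)⁻¹) y =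
      (x : G) * (y⁻¹ * g * y) * (x : G)⁻¹ := by simp [mul_assoc]
  rw [he]
  by_cases h : y⁻¹ * g * y ∈ A
  · rw [Char.extendByZero_apply_mem A _ h, Char.extendByZero_apply_mem A _ (hiff.mp h), tw_apply]
    rfl
  · rw [Char.extendByZero_of_notMem A _ h, Char.extendByZero_of_notMem A _ (fun h' => h (hiff.mpr h'))]

/-- The Gram matrix of the differences of induced characters. -/
theorem gram [DecidableEq (Orb A)] (l l' m m' : NP A) :
    Cfsg.classInner (Cfsg.indFun A (l.1 : A → ℂ) - Cfsg.indFun A (l'.1 : A → ℂ))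
      (Cfsg.indFun A (m.1 : A → ℂ) - Cfsg.indFun A (m'.1 : A → ℂ)) =
      (if orb A l = orb A m then 1 else 0) - (if orb A l = orb A m' then 1 else 0) -
        (if orb A l' = orb A m then 1 else 0) + (if orb A l' = orb A m' then 1 else 0) := by
  classical
  have hne : (Nat.card A : ℂ) ≠ 0 := Nat.cast_ne_zero.mpr Nat.card_pos.ne'
  rw [← Char.indFun_sub, ← Char.indFun_sub, Char.classInner_indFun _ _ _ (Char.isClassFunction_indFun A _)]
  have hres : Cfsg.classInner ((l.1 : A → ℂ) - (l'.1 : A → ℂ))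
        (fun b : A => Cfsg.indFun A ((m.1 : A → ℂ) - (m'.1 : A → ℂ)) b) =
      Cfsg.classInner ((l.1 : A → ℂ) - (l'.1 : A → ℂ))
        ((Nat.card A : ℂ)⁻¹ • ∑ x : Subgroup.normalizer (A : Set G),
          (((tw A x m).1 : A → ℂ) - ((tw A x m').1 : A → ℂ))) := by
    unfold Cfsg.classInner
    congr 1
    refine Finset.sum_congr rfl fun b _ => ?_
    by_cases hb : b = 1
    · subst hb
      simp [irr_apply_one hA]
    · dsimp only
      rw [indFun_apply_of_mem hA _ hb, Pi.smul_apply, Finset.sum_apply, smul_eq_mul]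
      rfl
  rw [hres, Char.classInner_smul_right, map_inv₀, map_natCast]
  simp only [Char.classInner_sum_right, Char.classInner_sub_left, Char.classInner_sub_right,
    Char.classInner_irrCharacter, Finset.sum_sub_distrib]
  have key : ∀ p q : NP A,
      ∑ x : Subgroup.normalizer (A : Set G), (if p.1 = (tw A x q).1 then (1 : ℂ) else 0) =
        (Nat.card A : ℂ) * (if orb A p = orb A q then 1 else 0) := by
    intro p q
    rw [show (if orb A p = orb A q then (1 : ℂ) else 0) = if orb A q = orb A p then 1 else 0 from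
      if_congr eq_comm rfl rfl, card_mul_orb_eq hA q p]
    exact Finset.sum_congr rfl fun x _ =>
      if_congr ⟨fun h => (Subtype.ext h).symm, fun h => congrArg Subtype.val h.symm⟩ rfl rfl
  rw [key, key, key, key]
  field_simp
  ring

theorem orb_conjNP_ne (hodd : Odd (Nat.card G)) (l : NP A) :
    orb A (conjNP l) ≠ orb A l := by
  intro h
  obtain ⟨x, hx⟩ := Quotient.exact h.symm
  have hx2 : tw A (x * x) l = l := by
    rw [tw_mul, hx]
    refine Subtype.ext (Subtype.ext (funext fun b => ?_))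
    have := congrFun (congrArg (fun m : NP A => (m.1 : A → ℂ)) hx) b
    simp only [tw_apply] at this
    rw [tw_apply]
    show conj ((l.1 : A → ℂ) (conjA A x b)) = _
    rw [this]
    show conj (conj ((l.1 : A → ℂ) b)) = _
    simp
  rw [tw_eq_self_iff hA] at hx2
  obtain ⟨k, hk⟩ := hodd
  have hxA : (x : G) ∈ A := by
    have : ((x : G) * x) ^ (k + 1) = x := by
      rw [← sq, ← pow_mul, show 2 * (k + 1) = Nat.card G + 1 by omega, pow_succ, pow_card_eq_one',
        one_mul]
    rw [← this]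
    exact pow_mem hx2 _
  rw [(tw_eq_self_iff hA x l).mpr hxA] at hx
  exact l.2 (eq_principal_of_conjIrr_eq
    (Odd.of_dvd_nat ⟨k, hk⟩ (Subgroup.card_subgroup_dvd_card A)) l.1 (congrArg Subtype.val hx).symm)

omit [Fintype G] in
theorem nonempty_np [Finite G] : Nonempty (NP A) := by
  classical
  cases nonempty_fintype G
  by_contra h
  rw [not_nonempty_iff] at h
  obtain ⟨b, hb, hb1⟩ := hA.exists_ne_one
  have := sum_np_apply hA (b := ⟨b, hb⟩) fun h => hb1 (congrArg Subtype.val h)
  simp at this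

/-- The exceptional characters. -/
theorem exists_mu (hodd : Odd (Nat.card G)) :
    ∃ (ε : ℤ) (μ : Orb A → Cfsg.IrrCharacter G), (ε = 1 ∨ ε = -1) ∧ Function.Injective μ ∧
      (∀ l l' : NP A, Cfsg.indFun A (l.1 : A → ℂ) - Cfsg.indFun A (l'.1 : A → ℂ) =
        (ε : ℂ) • ((μ (orb A l) : G → ℂ) - (μ (orb A l') : G → ℂ))) ∧
      ∀ l, μ (orb A (conjNP l)) = conjIrr (μ (orb A l)) := by
  classical
  obtain ⟨l₀⟩ := nonempty_np hA
  let i₀ : Orb A := orb A l₀
  let τ : Orb A → G → ℂ := fun o =>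
    Cfsg.indFun A ((Quotient.out o).1 : A → ℂ) - Cfsg.indFun A ((Quotient.out i₀).1 : A → ℂ)
  have hout : ∀ o : Orb A, orb A (Quotient.out o) = o := fun o => Quotient.out_eq o
  obtain ⟨ε, hε, μ, hμ, hinj, hτ⟩ := CharExc.exists_base i₀ τ (sub_self _)
    (fun o => by
      exact Char.IsGeneralizedCharacter.sub
        (Char.IsCharacter.isGeneralizedCharacter
          (Char.IsCharacter.indFun A (Char.IsIrrCharacter.isCharacter (Quotient.out o).1.2)))
        (Char.IsCharacter.isGeneralizedCharacter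
          (Char.IsCharacter.indFun A (Char.IsIrrCharacter.isCharacter (Quotient.out i₀).1.2))))
    (fun o => by
      show Cfsg.indFun A _ 1 - Cfsg.indFun A _ 1 = 0
      rw [Char.indFun_apply_one, Char.indFun_apply_one, irr_apply_one hA, irr_apply_one hA, sub_self])
    (fun o ho => by
      simp only [τ]
      rw [gram hA, hout, hout, if_pos rfl, if_neg ho, if_neg (Ne.symm ho), if_pos rfl]
      norm_num)
    (fun o o' ho ho' hoo => by
      simp only [τ]
      rw [gram hA, hout, hout, hout, if_neg hoo, if_neg ho, if_neg (Ne.symm ho'), if_pos rfl]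
      norm_num)
  have hind : ∀ l : NP A, Cfsg.indFun A (l.1 : A → ℂ) = Cfsg.indFun A ((Quotient.out (orb A l)).1 : A → ℂ) := by
    intro l
    obtain ⟨x, hx⟩ := Quotient.exact (hout (orb A l))
    rw [← indFun_tw hA x (Quotient.out (orb A l)), hx]
  obtain ⟨e, he, hee⟩ : ∃ e : ℤ, (e = 1 ∨ e = -1) ∧ ε = (e : ℂ) := by
    rcases hε with h | h
    · exact ⟨1, .inl rfl, by simp [h]⟩
    · exact ⟨-1, .inr rfl, by simp [h]⟩
  have hdiff : ∀ l l' : NP A, Cfsg.indFun A (l.1 : A → ℂ) - Cfsg.indFun A (l'.1 : A → ℂ) =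
      (e : ℂ) • (μ (orb A l) - μ (orb A l')) := by
    intro l l'
    rw [hind l, hind l', show Cfsg.indFun A ((Quotient.out (orb A l)).1 : A → ℂ) -
      Cfsg.indFun A ((Quotient.out (orb A l')).1 : A → ℂ) = τ (orb A l) - τ (orb A l') from
      (sub_sub_sub_cancel_right _ _ _).symm, hτ, hτ, hee, ← smul_sub, sub_sub_sub_cancel_right]
  refine ⟨e, fun o => ⟨μ o, hμ o⟩, he, fun o o' h => hinj (congrArg Subtype.val h), hdiff,
    fun l => Subtype.ext ?_⟩
  have hne0 : (e : ℂ) ≠ 0 := by rcases he with h | h <;> simp [h]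
  have hconj : ∀ g, conj (μ (orb A l) g) - conj (μ (orb A (conjNP l)) g) =
      μ (orb A (conjNP l)) g - μ (orb A l) g := by
    intro g
    refine mul_left_cancel₀ hne0 ?_
    have h1 := congrFun (hdiff l (conjNP l)) g
    have h2 := congrFun (hdiff (conjNP l) l) g
    simp only [Pi.sub_apply, Pi.smul_apply, smul_eq_mul] at h1 h2
    have hc : ∀ k : NP A, conj (Cfsg.indFun A (k.1 : A → ℂ) g) =
        Cfsg.indFun A ((conjNP k).1 : A → ℂ) g := by
      intro k
      simp only [Char.indFun_apply, map_mul, map_inv₀, map_natCast, map_sum]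
      congr 1
      refine Finset.sum_congr rfl fun y _ => ?_
      by_cases hy : y⁻¹ * g * y ∈ A
      · rw [Char.extendByZero_apply_mem A _ hy, Char.extendByZero_apply_mem A _ hy]; rfl
      · rw [Char.extendByZero_of_notMem A _ hy, Char.extendByZero_of_notMem A _ hy, map_zero]
    have hcc : (conjNP (conjNP l)) = l := Subtype.ext (conjIrr_conjIrr _)
    have h3 := congrArg conj h1
    rw [map_sub, hc, hc, hcc, map_mul, map_intCast, map_sub, h2] at h3
    linear_combination -h3
  have hne : μ (orb A (conjNP l)) ≠ μ (orb A l) := fun h => orb_conjNP_ne hA hodd l (hinj h)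
  have hfun : (fun g => conj (μ (orb A l) g)) - (fun g => conj (μ (orb A (conjNP l)) g)) =
      μ (orb A (conjNP l)) - μ (orb A l) := funext hconj
  have h4 := congrArg (fun f => Cfsg.classInner f (μ (orb A (conjNP l)))) hfun
  simp only [Char.classInner_sub_left, Char.classInner_irr_self (hμ _),
    Char.classInner_irr_of_ne (hμ (orb A l)) (hμ _) hne.symm, sub_zero] at h4
  by_contra hcon
  rw [Char.classInner_irr (CharTwist.isIrrCharacter_conj (hμ _)) (hμ _),
    Char.classInner_irr (CharTwist.isIrrCharacter_conj (hμ _)) (hμ _),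
    if_neg (fun h => hcon h.symm)] at h4
  split_ifs at h4 <;> norm_num at h4

/-- Everything needed about the exceptional family of `A`. -/
theorem exists_family (hodd : Odd (Nat.card G)) :
    ∃ (E : Finset (Cfsg.IrrCharacter G)) (X : Cfsg.IrrCharacter G → ℤ) (ε : ℤ) (n t : ℕ),
      n * Nat.card A = Nat.card (Subgroup.normalizer (A : Set G)) ∧
      Nat.card A = n * t + 1 ∧ 2 ≤ t ∧ Even t ∧ E.card = t ∧ (ε = 1 ∨ ε = -1) ∧
      Char.principalIrr ∉ E ∧
      (∀ φ ∈ E, conjIrr φ ∈ E) ∧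
      (∀ φ, X (conjIrr φ) = X φ) ∧
      (∀ φ, φ ∉ E → ∀ b ∈ sharp A, (φ : G → ℂ) b = (X φ : ℂ)) ∧
      (∀ b ∈ sharp A, ∑ φ ∈ E, (φ : G → ℂ) b = ((∑ φ ∈ E, X φ : ℤ) : ℂ) - (ε : ℂ)) ∧
      (∀ S : Finset (Cfsg.IrrCharacter G), Disjoint S E → Char.principalIrr ∉ S →
        ∑ φ ∈ S, X φ ^ 2 ≤ (n : ℤ) - 1) ∧
      (∀ φ ∈ E, (n : ℝ) * Nat.card A - (n : ℝ) ^ 2 ≤ ∑ b ∈ sharp A, ‖(φ : G → ℂ) b‖ ^ 2) ∧
      (∀ φ ∈ E, ∀ ψ ∈ E, ∀ z : G, (∀ y : G, y⁻¹ * z * y ∈ A → y⁻¹ * z * y = 1) →
        (φ : G → ℂ) z = (ψ : G → ℂ) z) := by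
  classical
  obtain ⟨ε, μ, hε, hinj, hdiff, hconjμ⟩ := exists_mu hA hodd
  obtain ⟨l₀⟩ := nonempty_np hA
  set a := Nat.card A with ha
  let δ : Cfsg.IrrCharacter G → NP A → ℂ := fun φ l => if μ (orb A l) = φ then 1 else 0
  -- multiplicities in the restriction
  let m : Cfsg.IrrCharacter G → Cfsg.IrrCharacter A → ℂ := fun φ l =>
    Cfsg.classInner (fun b : A => (φ : G → ℂ) b) (l : A → ℂ)
  have hm : ∀ (φ : Cfsg.IrrCharacter G) (l l' : NP A), m φ l.1 - m φ l'.1 = (ε : ℂ) * (δ φ l - δ φ l') := by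
    intro φ l l'
    have hrec : ∀ k : NP A, m φ k.1 =
        conj (Cfsg.classInner (Cfsg.indFun A (k.1 : A → ℂ)) (φ : G → ℂ)) := by
      intro k
      rw [Char.classInner_indFun _ _ _ (Char.IsIrrCharacter.isClassFunction φ.2),
        Char.classInner_conj_symm]
    rw [hrec, hrec, ← map_sub, ← Char.classInner_sub_left, hdiff, Char.classInner_smul_left,
      Char.classInner_sub_left, Char.classInner_irrCharacter, Char.classInner_irrCharacter,
      map_mul, map_intCast, map_sub]
    simp only [δ]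
    split_ifs <;> simp
  have hXex : ∀ φ, ∃ z : ℤ, (z : ℂ) = m φ Char.principalIrr - (m φ l₀.1 - (ε : ℂ) * δ φ l₀) := by
    intro φ
    obtain ⟨p, hp⟩ := Char.IsCharacter.exists_nat_classInner
      (CharTwist.isCharacter_comp (Char.IsIrrCharacter.isCharacter φ.2) A.subtype)
      (Char.principalIrr : Cfsg.IrrCharacter A).2
    obtain ⟨q, hq⟩ := Char.IsCharacter.exists_nat_classInner
      (CharTwist.isCharacter_comp (Char.IsIrrCharacter.isCharacter φ.2) A.subtype) l₀.1.2
    refine ⟨(p : ℤ) - ((q : ℤ) - ε * (if μ (orb A l₀) = φ then 1 else 0)), ?_⟩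
    rw [show m φ Char.principalIrr = (p : ℂ) from hp, show m φ l₀.1 = (q : ℂ) from hq]
    simp only [δ]
    split_ifs <;> simp
  choose X hX using hXex
  let Θ : Cfsg.IrrCharacter G → A → ℂ := fun φ b => ∑ l : NP A, δ φ l * (l.1 : A → ℂ) b
  have hval : ∀ (φ : Cfsg.IrrCharacter G) (b : A), b ≠ 1 → (φ : G → ℂ) b = (X φ : ℂ) + (ε : ℂ) * Θ φ b := by
    intro φ b hb
    have h := congrFun (Char.IsCharacter.eq_sum_classInner
      (CharTwist.isCharacter_comp (Char.IsIrrCharacter.isCharacter φ.2) A.subtype)) b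
    simp only [Function.comp, Subgroup.coe_subtype, Finset.sum_apply, Pi.smul_apply, smul_eq_mul] at h
    rw [h, ← Finset.add_sum_erase _ _ (Finset.mem_univ Char.principalIrr), Char.principalIrr_apply,
      Finset.sum_subtype (Finset.univ.erase Char.principalIrr) (p := fun l => l ≠ Char.principalIrr)
        (by simp)]
    have hl : ∀ l : NP A, m φ l.1 * (l.1 : A → ℂ) b =
        (m φ l₀.1 - (ε : ℂ) * δ φ l₀) * (l.1 : A → ℂ) b + (ε : ℂ) * (δ φ l * (l.1 : A → ℂ) b) := by
      intro l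
      linear_combination (l.1 : A → ℂ) b * hm φ l l₀
    show m φ Char.principalIrr * 1 + ∑ l : NP A, m φ l.1 * (l.1 : A → ℂ) b = _
    rw [Finset.sum_congr rfl (fun l _ => hl l), Finset.sum_add_distrib, ← Finset.mul_sum,
      ← Finset.mul_sum, sum_np_apply hA hb, hX]
    ring
  -- fibres
  let n := Nat.card {l : NP A // orb A l = orb A l₀}
  let E := (Finset.univ : Finset (Orb A)).image μ
  have hne : (a : ℂ) ≠ 0 := Nat.cast_ne_zero.mpr Nat.card_pos.ne'
  have hfib : ∀ o : Orb A, (Finset.univ.filter fun l : NP A => orb A l = o).card * a =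
      Nat.card (Subgroup.normalizer (A : Set G)) := by
    intro o
    obtain ⟨l, rfl⟩ := Quotient.exists_rep o
    have h : ∑ k : NP A, (a : ℂ) * (if orb A l = orb A k then 1 else 0) =
        (Nat.card (Subgroup.normalizer (A : Set G)) : ℂ) := by
      simp only [ha, card_mul_orb_eq hA]
      rw [Finset.sum_comm]
      simp [Nat.card_eq_fintype_card]
    rw [← Finset.mul_sum, Finset.sum_boole, ← Nat.cast_mul, Nat.cast_inj] at h
    rw [← h, mul_comm]
    congr 2
    ext k
    simp [eq_comm]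
  have hn : n * a = Nat.card (Subgroup.normalizer (A : Set G)) := by
    rw [← hfib (orb A l₀)]
    simp [n, Nat.card_eq_fintype_card, Fintype.card_subtype]
  have hfib' : ∀ o : Orb A, (Finset.univ.filter fun l : NP A => orb A l = o).card = n :=
    fun o => Nat.eq_of_mul_eq_mul_right Nat.card_pos ((hfib o).trans hn.symm)
  set t := Fintype.card (Orb A) with ht
  have hat : a = n * t + 1 := by
    have h1 : Fintype.card (NP A) = n * t := by
      rw [← Finset.card_univ, Finset.card_eq_sum_card_fiberwise (f := orb A)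
        (t := Finset.univ) (fun _ _ => Finset.mem_univ _), Finset.sum_congr rfl (fun o _ => hfib' o),
        Finset.sum_const, Finset.card_univ, smul_eq_mul, mul_comm]
    have h2 := card_irrA hA
    rw [Nat.card_eq_fintype_card, Fintype.card_subtype_compl] at *
    simp only [Fintype.card_subtype_eq] at h1
    have : 0 < Fintype.card (Cfsg.IrrCharacter A) := Fintype.card_pos_iff.mpr ⟨Char.principalIrr⟩
    omega
  have hnodd : Odd n := Odd.of_dvd_nat hodd
    (dvd_trans ⟨a, hn.symm⟩ (Subgroup.card_subgroup_dvd_card _))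
  have hteven : Even t := by
    have : Odd a := Odd.of_dvd_nat hodd (Subgroup.card_subgroup_dvd_card A)
    rw [hat, Nat.odd_add_one, Nat.not_odd_iff_even, Nat.even_mul] at this
    exact this.resolve_left (Nat.not_even_iff_odd.mpr hnodd)
  have ht2 : 2 ≤ t := by
    have : 0 < t := Fintype.card_pos_iff.mpr ⟨orb A l₀⟩
    obtain ⟨k, hk⟩ := hteven
    omega
  have hEcard : E.card = t := by rw [Finset.card_image_of_injective _ hinj, Finset.card_univ]
  have hmemE : ∀ φ, φ ∈ E ↔ ∃ o, μ o = φ := fun φ => by simp [E]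
  have hδ0 : ∀ φ, φ ∉ E → ∀ l, δ φ l = 0 := fun φ hφ l =>
    if_neg fun h => hφ ((hmemE φ).mpr ⟨_, h⟩)
  have hclosed : ∀ φ ∈ E, conjIrr φ ∈ E := by
    intro φ hφ
    obtain ⟨o, rfl⟩ := (hmemE φ).mp hφ
    obtain ⟨l, rfl⟩ := Quotient.exists_rep o
    exact (hmemE _).mpr ⟨_, hconjμ l⟩
  have hprin : Char.principalIrr ∉ E := by
    intro h
    obtain ⟨o, ho⟩ := (hmemE _).mp h
    obtain ⟨l, rfl⟩ := Quotient.exists_rep o
    refine orb_conjNP_ne hA hodd l (hinj ?_)
    rw [hconjμ, ho]
    exact Subtype.ext (funext fun g => by simp [conjIrr_apply])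
  obtain ⟨b₀, hb₀, hb₀1⟩ := hA.exists_ne_one
  have hb₀' : (⟨b₀, hb₀⟩ : A) ≠ 1 := fun h => hb₀1 (congrArg Subtype.val h)
  have hXconj : ∀ φ, X (conjIrr φ) = X φ := by
    intro φ
    have hΘ : Θ (conjIrr φ) ⟨b₀, hb₀⟩ = conj (Θ φ ⟨b₀, hb₀⟩) := by
      simp only [Θ, map_sum, map_mul]
      refine Fintype.sum_equiv ⟨conjNP, conjNP, fun l => Subtype.ext (conjIrr_conjIrr _),
        fun l => Subtype.ext (conjIrr_conjIrr _)⟩ _ _ fun l => ?_
      simp only [δ, Equiv.coe_fn_mk]
      have hiff : μ (orb A l) = conjIrr φ ↔ μ (orb A (conjNP l)) = φ := by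
        rw [hconjμ]
        exact ⟨fun h => by rw [h, conjIrr_conjIrr], fun h => by rw [← h, conjIrr_conjIrr]⟩
      rw [if_congr hiff rfl rfl]
      split_ifs <;> simp [conjNP, conjIrr_apply]
    have h1 := hval φ _ hb₀'
    have h2 := hval (conjIrr φ) _ hb₀'
    rw [conjIrr_apply, h1, hΘ, map_add, map_mul, map_intCast, map_intCast] at h2
    exact_mod_cast (add_right_cancel h2).symm
  have hsharp : ∀ b ∈ sharp A, ∃ c : A, c ≠ 1 ∧ (c : G) = b := fun b hb =>
    ⟨⟨b, (mem_sharp.mp hb).1⟩, fun h => (mem_sharp.mp hb).2 (congrArg Subtype.val h), rfl⟩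
  have hoff : ∀ φ, φ ∉ E → ∀ b ∈ sharp A, (φ : G → ℂ) b = (X φ : ℂ) := by
    intro φ hφ b hb
    obtain ⟨c, hc, rfl⟩ := hsharp b hb
    simp [hval φ c hc, Θ, hδ0 φ hφ]
  have hsumΘ : ∀ b : A, ∀ o, Θ (μ o) b =
      ∑ l ∈ Finset.univ.filter (fun l : NP A => orb A l = o), (l.1 : A → ℂ) b := by
    intro b o
    simp only [Θ, δ, hinj.eq_iff, ite_mul, one_mul, zero_mul, Finset.sum_filter]
  have hsumE : ∀ b : A, b ≠ 1 → ∑ φ ∈ E, Θ φ b = -1 := by
    intro b hb
    rw [Finset.sum_image (fun x _ y _ h => hinj h), Finset.sum_congr rfl (fun o _ => hsumΘ b o),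
      Finset.sum_fiberwise, sum_np_apply hA hb]
  have hsum : ∀ b ∈ sharp A, ∑ φ ∈ E, (φ : G → ℂ) b =
      ((∑ φ ∈ E, X φ : ℤ) : ℂ) - (ε : ℂ) := by
    intro b hb
    obtain ⟨c, hc, rfl⟩ := hsharp b hb
    rw [Finset.sum_congr rfl (fun φ _ => hval φ c hc), Finset.sum_add_distrib, ← Finset.mul_sum,
      hsumE c hc, Int.cast_sum]
    ring
  -- second moments on `A`
  let As := (Finset.univ : Finset A).erase 1
  have hsharpsum : ∀ f : G → ℂ, ∑ b ∈ sharp A, f b = ∑ c ∈ As, f c := by
    intro f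
    refine (Finset.sum_bij (fun (c : A) _ => (c : G)) ?_ ?_ ?_ (fun _ _ => rfl)).symm
    · intro c hc
      exact mem_sharp.mpr ⟨c.2, fun h => (Finset.mem_erase.mp hc).1 (Subtype.ext h)⟩
    · intro c _ d _ h
      exact Subtype.ext h
    · intro b hb
      obtain ⟨c, hc, rfl⟩ := hsharp b hb
      exact ⟨c, Finset.mem_erase.mpr ⟨hc, Finset.mem_univ _⟩, rfl⟩
  have hrow : ∀ k k' : Cfsg.IrrCharacter A, ∑ c : A, (k : A → ℂ) c * conj ((k' : A → ℂ) c) =
      if k = k' then (a : ℂ) else 0 := by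
    intro k k'
    have h := Char.classInner_irrCharacter k k'
    rw [Cfsg.classInner, inv_mul_eq_iff_eq_mul₀ hne] at h
    rw [h, mul_ite, mul_one, mul_zero]
  have hS1 : ∀ o, ∑ c ∈ As, Θ (μ o) c = -(n : ℂ) := by
    intro o
    simp only [hsumΘ]
    rw [Finset.sum_comm, ← hfib' o]
    have : ∀ l ∈ Finset.univ.filter (fun l : NP A => orb A l = o),
        ∑ c ∈ As, (l.1 : A → ℂ) c = -1 := by
      intro l _
      have h := hrow l.1 Char.principalIrr
      rw [if_neg l.2] at h
      simp only [Char.principalIrr_apply, map_one, mul_one] at h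
      rw [← Finset.add_sum_erase _ _ (Finset.mem_univ (1 : A)), irr_apply_one hA] at h
      linear_combination h
    rw [Finset.sum_congr rfl this, Finset.sum_const, nsmul_eq_mul]
    ring
  have hS2 : ∀ o, ∑ c ∈ As, Θ (μ o) c * conj (Θ (μ o) c) = (n : ℂ) * a - (n : ℂ) ^ 2 := by
    intro o
    simp only [hsumΘ, map_sum, Finset.sum_mul_sum]
    rw [Finset.sum_comm]
    have : ∀ l ∈ Finset.univ.filter (fun l : NP A => orb A l = o),
        ∑ c ∈ As, ∑ k ∈ Finset.univ.filter (fun l : NP A => orb A l = o),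
          (l.1 : A → ℂ) c * conj ((k.1 : A → ℂ) c) = (a : ℂ) - n := by
      intro l hl
      rw [Finset.sum_comm]
      have hk : ∀ k : NP A, ∑ c ∈ As, (l.1 : A → ℂ) c * conj ((k.1 : A → ℂ) c) =
          (if l = k then (a : ℂ) else 0) - 1 := by
        intro k
        have h := hrow l.1 k.1
        rw [← Finset.add_sum_erase _ _ (Finset.mem_univ (1 : A)), irr_apply_one hA,
          irr_apply_one hA, map_one, one_mul] at h
        rw [show (if l = k then (a : ℂ) else 0) = if l.1 = k.1 then (a : ℂ) else 0 from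
          if_congr Subtype.ext_iff rfl rfl]
        linear_combination h
      rw [Finset.sum_congr rfl (fun k _ => hk k), Finset.sum_sub_distrib, Finset.sum_ite_eq,
        if_pos hl, Finset.sum_const, hfib' o, nsmul_eq_mul, mul_one]
    rw [Finset.sum_congr rfl this, Finset.sum_const, hfib' o, nsmul_eq_mul]
    ring
  have hAs : (As.card : ℂ) = (n : ℂ) * t := by
    rw [Finset.card_erase_of_mem (Finset.mem_univ _), Finset.card_univ, ← Nat.card_eq_fintype_card,
      ← ha, hat]
    simp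
  have hsq : ∀ φ : Cfsg.IrrCharacter G, ∑ b ∈ sharp A, (φ : G → ℂ) b * conj ((φ : G → ℂ) b) =
      (n : ℂ) * t * (X φ : ℂ) ^ 2 +
        if φ ∈ E then (n : ℂ) * a - (n : ℂ) ^ 2 - 2 * (ε : ℂ) * n * (X φ : ℂ) else 0 := by
    intro φ
    rw [hsharpsum (fun b => (φ : G → ℂ) b * conj ((φ : G → ℂ) b)),
      Finset.sum_congr rfl (fun c hc => by rw [hval φ c (Finset.mem_erase.mp hc).1])]
    have hε2 : (ε : ℂ) * ε = 1 := by rcases hε with h | h <;> simp [h]
    by_cases hφ : φ ∈ E
    · obtain ⟨o, rfl⟩ := (hmemE φ).mp hφ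
      rw [if_pos hφ]
      have hexp : ∀ c : A, ((X (μ o) : ℂ) + (ε : ℂ) * Θ (μ o) c) *
          conj ((X (μ o) : ℂ) + (ε : ℂ) * Θ (μ o) c) =
          (X (μ o) : ℂ) ^ 2 + (X (μ o) : ℂ) * (ε : ℂ) * Θ (μ o) c +
            (X (μ o) : ℂ) * (ε : ℂ) * conj (Θ (μ o) c) + Θ (μ o) c * conj (Θ (μ o) c) := by
        intro c
        rw [map_add, map_mul, map_intCast, map_intCast]
        linear_combination (Θ (μ o) c * conj (Θ (μ o) c)) * hε2
      simp only [hexp, Finset.sum_add_distrib, Finset.sum_const, nsmul_eq_mul, hAs, ← Finset.mul_sum,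
        ← map_sum, hS1, hS2, map_neg, map_natCast]
      ring
    · rw [if_neg hφ]
      simp only [Θ, hδ0 φ hφ, zero_mul, Finset.sum_const_zero, mul_zero, add_zero,
        map_intCast, Finset.sum_const, nsmul_eq_mul, hAs]
      ring
  have hge : ∀ x : ℤ, 0 ≤ (t : ℤ) * x ^ 2 - 2 * ε * x := by
    intro x
    have ht2' : (2 : ℤ) ≤ (t : ℤ) := by exact_mod_cast ht2
    rcases eq_or_ne x 0 with rfl | hx
    · simp
    · have hxx : |x| ≤ x ^ 2 := by
        rw [← sq_abs]
        have := Int.one_le_abs hx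
        nlinarith
      have h2 : ε * x ≤ |x| := by
        rcases hε with h | h <;> rw [h]
        · simpa using le_abs_self x
        · simpa using neg_le_abs x
      nlinarith
  refine ⟨E, X, ε, n, t, hn, hat, ht2, hteven, hEcard, hε, hprin, hclosed, hXconj, hoff, hsum,
    ?_, ?_, ?_⟩
  · intro S hS hS1'
    have htot : ∑ φ : Cfsg.IrrCharacter G, ∑ b ∈ sharp A, (φ : G → ℂ) b * conj ((φ : G → ℂ) b) =
        (n : ℂ) * t * a := by
      rw [Finset.sum_comm, Finset.sum_congr rfl (g := fun _ => (a : ℂ)) ?_, Finset.sum_const,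
        nsmul_eq_mul]
      · have := hsharpsum (fun _ => 1)
        simp only [Finset.sum_const, nsmul_eq_mul, mul_one] at this
        rw [this, hAs]
      · intro b hb
        rw [Char.sum_mul_conj, if_pos (IsConj.refl b),
          hA.centralizer_eq b (mem_sharp.mp hb).1 (mem_sharp.mp hb).2]
    rw [Finset.sum_congr rfl (fun φ _ => hsq φ), Finset.sum_add_distrib, Finset.sum_ite_mem,
      Finset.univ_inter, ← Finset.mul_sum] at htot
    have htotZ : (n : ℤ) * t * (∑ φ, X φ ^ 2) +
        ∑ φ ∈ E, ((n : ℤ) * a - (n : ℤ) ^ 2 - 2 * ε * n * X φ) = (n : ℤ) * t * a := by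
      exact_mod_cast htot
    rw [Finset.sum_sub_distrib, Finset.sum_const, hEcard, nsmul_eq_mul] at htotZ
    have hsub : Disjoint (insert Char.principalIrr S) E := by
      rw [Finset.disjoint_insert_left]
      exact ⟨hprin, hS⟩
    have hle : ∑ φ ∈ insert Char.principalIrr S, X φ ^ 2 + ∑ φ ∈ E, X φ ^ 2 ≤ ∑ φ, X φ ^ 2 := by
      rw [← Finset.sum_union hsub]
      exact Finset.sum_le_sum_of_subset_of_nonneg (Finset.subset_univ _) (fun _ _ _ => sq_nonneg _)
    have hX1 : X Char.principalIrr = 1 := by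
      have := hoff _ hprin b₀ (mem_sharp.mpr ⟨hb₀, hb₀1⟩)
      rw [Char.principalIrr_apply] at this
      exact_mod_cast this.symm
    rw [Finset.sum_insert hS1', hX1] at hle
    have hEnn : 0 ≤ ∑ φ ∈ E, ((t : ℤ) * X φ ^ 2 - 2 * ε * X φ) :=
      Finset.sum_nonneg fun φ _ => hge _
    rw [Finset.sum_sub_distrib, ← Finset.mul_sum, ← Finset.mul_sum] at hEnn
    rw [← Finset.mul_sum] at htotZ
    have hatZ : (a : ℤ) = n * t + 1 := by exact_mod_cast hat
    have hnpos : (0 : ℤ) < n := by
      rcases hnodd with ⟨k, hk⟩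
      omega
    have htpos : (0 : ℤ) < t := by omega
    have h1 : (n : ℤ) * ((t : ℤ) * ∑ φ ∈ S, X φ ^ 2) ≤ (n : ℤ) * ((t : ℤ) * ((n : ℤ) - 1)) := by
      nlinarith [mul_le_mul_of_nonneg_left hle (by positivity : (0 : ℤ) ≤ (n : ℤ) * t),
        mul_nonneg hnpos.le hEnn]
    exact le_of_mul_le_mul_left (le_of_mul_le_mul_left h1 hnpos) htpos
  · intro φ hφ
    have h := hsq φ
    rw [if_pos hφ] at h
    have h' : ((∑ b ∈ sharp A, ‖(φ : G → ℂ) b‖ ^ 2 : ℝ) : ℂ) =
        (((n : ℝ) * t * (X φ : ℝ) ^ 2 + ((n : ℝ) * a - (n : ℝ) ^ 2 - 2 * (ε : ℝ) * n * X φ) : ℝ) : ℂ) := by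
      push_cast
      rw [← h]
      exact Finset.sum_congr rfl fun b _ => (Complex.mul_conj' _).symm
    rw [Complex.ofReal_inj] at h'
    rw [h']
    have hz : (0 : ℝ) ≤ (t : ℝ) * (X φ : ℝ) ^ 2 - 2 * (ε : ℝ) * (X φ : ℝ) := by
      exact_mod_cast hge (X φ)
    nlinarith [mul_nonneg (Nat.cast_nonneg' n : (0 : ℝ) ≤ n) hz]
  · intro φ hφ ψ hψ z hz
    obtain ⟨o, rfl⟩ := (hmemE φ).mp hφ
    obtain ⟨o', rfl⟩ := (hmemE ψ).mp hψ
    obtain ⟨l, rfl⟩ := Quotient.exists_rep o
    obtain ⟨l', rfl⟩ := Quotient.exists_rep o'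
    have h := congrFun (hdiff l l') z
    have heq : Cfsg.indFun A (l.1 : A → ℂ) z = Cfsg.indFun A (l'.1 : A → ℂ) z := by
      simp only [Char.indFun_apply]
      congr 1
      refine Finset.sum_congr rfl fun y _ => ?_
      by_cases hy : y⁻¹ * z * y ∈ A
      · rw [Char.extendByZero_apply_mem A _ hy, Char.extendByZero_apply_mem A _ hy,
          show (⟨y⁻¹ * z * y, hy⟩ : A) = 1 from Subtype.ext (hz y hy), irr_apply_one hA,
          irr_apply_one hA]
      · rw [Char.extendByZero_of_notMem A _ hy, Char.extendByZero_of_notMem A _ hy]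
    rw [Pi.sub_apply, heq, sub_self, Pi.smul_apply, Pi.sub_apply, smul_eq_mul, eq_comm,
      mul_eq_zero, sub_eq_zero] at h
    exact h.resolve_left (by rcases hε with h | h <;> simp [h])

end CfsgLib.CA
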