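import Cfsg.Agent.Lib.CA.OrbitSums

/-!
# Character values on a self-centralizing subgroup with small norm

When `|N(A)/A| = e` is small against the number `k` of orbits of nonprincipal characters, the values on
`A#` of all irreducible characters and the class multiplication sums are determined by `ε`, `f` and the
`e - 1` further constituents of `Ind 1 - Ind l`.
-/

set_option autoImplicit false

open scoped ComplexConjugate

namespace CfsgLib.CA.Small

universe u

variable {G : Type u} [Group G] [Fintype G] {A : Subgroup G} [Fintype A]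
  [Fintype (Subgroup.normalizer (A : Set G))]

open Classical in
/-- The number of ways of writing `c` as a product of elements of the classes of `a` and `b` in `A`. -/
noncomputable def pairsA (a b c : A) : ℕ :=
  ((ncl a ×ˢ ncl b).filter fun p => p.1 * p.2 = c).card

variable (A) in
/-- The exceptional data of `A`. -/
structure Data (e : ℕ) where
  eps : ℤ
  eps_sq : eps = 1 ∨ eps = -1
  f : ℕ
  f_mod : (Nat.card A : ℤ) ∣ (f : ℤ) - e * eps
  exists_f : ∃ χ : Cfsg.IrrCharacter G, χ ≠ Char.principalIrr ∧ (χ : G → ℂ) 1 = f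
  rest : Finset (Cfsg.IrrCharacter G)
  deg : Cfsg.IrrCharacter G → ℕ
  deg_eq : ∀ χ : Cfsg.IrrCharacter G, (χ : G → ℂ) 1 = deg χ
  coeff : Cfsg.IrrCharacter G → ℤ
  rest_ne : ∀ χ ∈ rest, χ ≠ Char.principalIrr ∧ coeff χ ≠ 0
  rest_mod : ∀ χ ∈ rest, (Nat.card A : ℤ) ∣ (deg χ : ℤ) - coeff χ
  norm : ∑ χ ∈ rest, coeff χ ^ 2 + 1 = (e : ℤ)
  degree : 1 - eps * (f : ℤ) + ∑ χ ∈ rest, coeff χ * (deg χ : ℤ) = 0
  coef : ∀ a b c : A, a ≠ 1 → b ≠ 1 → c ≠ 1 →
    ∑ χ : Cfsg.IrrCharacter G, (χ : G → ℂ) a * (χ : G → ℂ) b * conj ((χ : G → ℂ) c) / (χ : G → ℂ) 1 =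
      1 + ∑ χ ∈ rest, (coeff χ : ℂ) ^ 3 / (deg χ : ℂ) +
        (eps : ℂ) * ((Nat.card A : ℂ) * (pairsA a b c : ℂ) - (e : ℂ) ^ 2) / (f : ℂ)

omit [Fintype (Subgroup.normalizer (A : Set G))] in
theorem exists_M (χ : Cfsg.IrrCharacter G) (θ : Cfsg.IrrCharacter A) :
    ∃ z : ℤ, Cfsg.classInner (Cfsg.indFun A (θ : A → ℂ)) χ = z :=
  CharExc.exists_int_classInner (Char.IsCharacter.isGeneralizedCharacter
    (Char.IsCharacter.indFun A (Char.IsIrrCharacter.isCharacter θ.2))) χ.2

/-- The multiplicity of `θ` in the restriction of `χ`. -/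
noncomputable def M (χ : Cfsg.IrrCharacter G) (θ : Cfsg.IrrCharacter A) : ℤ :=
  Classical.choose (exists_M χ θ)

omit [Fintype (Subgroup.normalizer (A : Set G))] in
theorem M_spec (χ : Cfsg.IrrCharacter G) (θ : Cfsg.IrrCharacter A) :
    Cfsg.classInner (Cfsg.indFun A (θ : A → ℂ)) χ = (M χ θ : ℂ) :=
  Classical.choose_spec (exists_M χ θ)

/-- The coefficient of `χ` in `Ind 1 - Ind l₀`. -/
noncomputable def Bc (l₀ : NP A) (χ : Cfsg.IrrCharacter G) : ℤ :=
  M χ (Char.principalIrr : Cfsg.IrrCharacter A) - M χ l₀.1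

omit [Fintype (Subgroup.normalizer (A : Set G))] in
theorem apply_eq_sum (χ : Cfsg.IrrCharacter G) (b : A) :
    (χ : G → ℂ) b = ∑ θ : Cfsg.IrrCharacter A, (M χ θ : ℂ) * (θ : A → ℂ) b := by
  have hcl := Char.IsIrrCharacter.isClassFunction χ.2
  have hres : Cfsg.IsClassFunction A (fun a : A => (χ : G → ℂ) a) := fun g x => by simpa using hcl (g : G) (x : G)
  conv_lhs => rw [show (χ : G → ℂ) b = (fun a : A => (χ : G → ℂ) a) b from rfl,
    Char.IsClassFunction.eq_sum_classInner hres]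
  simp only [Finset.sum_apply, Pi.smul_apply, smul_eq_mul]
  refine Finset.sum_congr rfl fun θ _ => ?_
  congr 1
  rw [← Char.classInner_conj_symm, ← Char.classInner_indFun A _ _ hcl, M_spec, map_intCast]

omit [Fintype (Subgroup.normalizer (A : Set G))] in
theorem sum_irrA {R : Type*} [AddCommMonoid R] (F : Cfsg.IrrCharacter A → R) :
    ∑ θ, F θ = F Char.principalIrr + ∑ l : NP A, F l.1 := by
  classical
  rw [← Finset.add_sum_erase _ _ (Finset.mem_univ Char.principalIrr),
    ← Finset.sum_subtype (Finset.univ.erase Char.principalIrr) (by simp) F]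

variable (hA : SelfCent A)
include hA

omit [Fintype (Subgroup.normalizer (A : Set G))] in
theorem apply_eq (l₀ : NP A) (χ : Cfsg.IrrCharacter G) {b : A} (hb : b ≠ 1) :
    (χ : G → ℂ) b = (Bc l₀ χ : ℂ) + ∑ l : NP A, ((M χ l.1 - M χ l₀.1 : ℤ) : ℂ) * (l.1 : A → ℂ) b := by
  classical
  rw [apply_eq_sum, sum_irrA]
  simp only [Int.cast_sub, sub_mul, Finset.sum_sub_distrib, ← Finset.mul_sum, sum_np_apply hA hb,
    Char.principalIrr_apply, Bc]
  push_cast
  ring

omit [Fintype (Subgroup.normalizer (A : Set G))] in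
theorem apply_one_eq (l₀ : NP A) (χ : Cfsg.IrrCharacter G) :
    (χ : G → ℂ) 1 =
      (((Nat.card A : ℤ) * M χ l₀.1 + Bc l₀ χ + ∑ l : NP A, (M χ l.1 - M χ l₀.1) : ℤ) : ℂ) := by
  classical
  have h := apply_eq_sum (A := A) χ 1
  rw [OneMemClass.coe_one] at h
  rw [h, sum_irrA]
  simp only [irr_apply_one hA, mul_one, Finset.sum_sub_distrib, Finset.sum_const, Finset.card_univ,
    nsmul_eq_mul]
  rw [← card_np hA]
  simp only [Bc]
  push_cast
  ring

/-- The hypotheses on the exceptional characters. -/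
structure Exc (ε : ℤ) (μ : Orb A → Cfsg.IrrCharacter G) : Prop where
  eps_sq : ε = 1 ∨ ε = -1
  inj : Function.Injective μ
  tau : ∀ l l' : NP A, Cfsg.indFun A (l.1 : A → ℂ) - Cfsg.indFun A (l'.1 : A → ℂ) =
    (ε : ℂ) • ((μ (orb A l) : G → ℂ) - (μ (orb A l') : G → ℂ))

variable {ε : ℤ} {μ : Orb A → Cfsg.IrrCharacter G}

omit [Fintype (Subgroup.normalizer (A : Set G))] in
theorem M_sub (hE : Exc ε μ) [DecidableEq (Cfsg.IrrCharacter G)] (χ : Cfsg.IrrCharacter G) (l l' : NP A) :
    M χ l.1 - M χ l'.1 = ε * ((if μ (orb A l) = χ then 1 else 0) - (if μ (orb A l') = χ then 1 else 0)) := by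
  have h := congrArg (fun t => Cfsg.classInner t (χ : G → ℂ)) (hE.tau l l')
  simp only [Char.classInner_sub_left, Char.classInner_smul_left, Char.classInner_irrCharacter, M_spec] at h
  rw [← Int.cast_inj (α := ℂ)]
  push_cast
  exact h

omit [Fintype (Subgroup.normalizer (A : Set G))] in
theorem mu_ne_principal (hE : Exc ε μ) [Fintype (Orb A)]
    (h2 : 2 ≤ Fintype.card (Orb A)) (o : Orb A) :
    μ o ≠ Char.principalIrr := by
  classical
  intro ho
  obtain ⟨o', hne⟩ := Fintype.exists_ne_of_one_lt_card h2 o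
  obtain ⟨l, rfl⟩ := Quotient.exists_rep o
  obtain ⟨l', rfl⟩ := Quotient.exists_rep o'
  have h1 : ∀ m : NP A, M (Char.principalIrr : Cfsg.IrrCharacter G) m.1 = 0 := by
    intro m
    have h := M_spec (Char.principalIrr : Cfsg.IrrCharacter G) m.1
    rw [Char.classInner_indFun A _ _ (fun _ _ => rfl)] at h
    have h' := Char.classInner_irrCharacter m.1 (Char.principalIrr : Cfsg.IrrCharacter A)
    rw [if_neg m.2] at h'
    exact Int.cast_eq_zero.1 (h.symm.trans (by exact h'))
  have h := M_sub hA hE (Char.principalIrr : Cfsg.IrrCharacter G) l l'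
  rw [h1, h1, if_pos ho, if_neg (fun e' => hne (hE.inj (e'.trans ho.symm)))] at h
  rcases hE.eps_sq with e1 | e1 <;> rw [e1] at h <;> norm_num at h

omit [Fintype (Subgroup.normalizer (A : Set G))] in
theorem Bc_principal (l₀ : NP A) : Bc l₀ (Char.principalIrr : Cfsg.IrrCharacter G) = 1 := by
  classical
  have h : ∀ θ : Cfsg.IrrCharacter A, (M (Char.principalIrr : Cfsg.IrrCharacter G) θ : ℂ) =
      if θ = Char.principalIrr then 1 else 0 := by
    intro θ
    rw [← M_spec, Char.classInner_indFun A _ _ (fun _ _ => rfl), ← Char.classInner_irrCharacter]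
    rfl
  rw [← Int.cast_inj (α := ℂ), Bc, Int.cast_sub, h, h, if_pos rfl, if_neg l₀.2]
  simp

variable {e : ℕ} (he : Nat.card (Subgroup.normalizer (A : Set G)) = Nat.card A * e)
include he

omit [Fintype (Subgroup.normalizer (A : Set G))] he in
theorem beta_eq (l₀ : NP A) :
    Cfsg.indFun A (((Char.principalIrr : Cfsg.IrrCharacter A) : A → ℂ) - (l₀.1 : A → ℂ)) =
      ∑ χ : Cfsg.IrrCharacter G, (Bc l₀ χ : ℂ) • (χ : G → ℂ) := by
  conv_lhs => rw [Char.IsClassFunction.eq_sum_classInner (Char.isClassFunction_indFun A _)]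
  refine Finset.sum_congr rfl fun χ _ => ?_
  rw [Char.indFun_sub, Char.classInner_sub_left, M_spec, M_spec, Bc, Int.cast_sub]

omit [Fintype (Subgroup.normalizer (A : Set G))] he in
theorem sum_Bc_deg (l₀ : NP A) : ∑ χ : Cfsg.IrrCharacter G, (Bc l₀ χ : ℂ) * (χ : G → ℂ) 1 = 0 := by
  have h := congrFun (beta_eq hA l₀) 1
  rw [Char.indFun_apply_one, Pi.sub_apply, irr_apply_one hA, irr_apply_one hA, sub_self, mul_zero,
    Finset.sum_apply] at h
  exact h.symm

theorem sum_Bc_sq (l₀ : NP A) : ∑ χ : Cfsg.IrrCharacter G, Bc l₀ χ ^ 2 = (e : ℤ) + 1 := by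
  classical
  have hne : (Nat.card A : ℂ) ≠ 0 := Nat.cast_ne_zero.mpr Nat.card_pos.ne'
  have h1 : Cfsg.classInner
      (Cfsg.indFun A (((Char.principalIrr : Cfsg.IrrCharacter A) : A → ℂ) - (l₀.1 : A → ℂ)))
      (Cfsg.indFun A (((Char.principalIrr : Cfsg.IrrCharacter A) : A → ℂ) - (l₀.1 : A → ℂ))) = (e : ℂ) + 1 := by
    rw [inner_ind hA _ _ (by simp [irr_apply_one hA])]
    have hx : ∀ x : Subgroup.normalizer (A : Set G), Cfsg.classInner
        (((Char.principalIrr : Cfsg.IrrCharacter A) : A → ℂ) - (l₀.1 : A → ℂ))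
        (fun b => (((Char.principalIrr : Cfsg.IrrCharacter A) : A → ℂ) - (l₀.1 : A → ℂ)) (conjA A x b)) =
        1 + if tw A x l₀ = l₀ then 1 else 0 := by
      intro x
      rw [show (fun b => (((Char.principalIrr : Cfsg.IrrCharacter A) : A → ℂ) - (l₀.1 : A → ℂ)) (conjA A x b)) =
        ((Char.principalIrr : Cfsg.IrrCharacter A) : A → ℂ) - ((tw A x l₀).1 : A → ℂ) from funext fun b => by
          simp [tw_apply]]
      simp only [Char.classInner_sub_left, Char.classInner_sub_right, Char.classInner_irrCharacter,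
        if_true, if_neg (Ne.symm (tw A x l₀).2), if_neg l₀.2]
      have hiff : l₀.1 = (tw A x l₀).1 ↔ tw A x l₀ = l₀ :=
        ⟨fun h => (Subtype.ext h).symm, fun h => by rw [h]⟩
      simp only [hiff]
      ring
    simp only [hx, Finset.sum_add_distrib, Finset.sum_const, Finset.card_univ, ← Nat.card_eq_fintype_card,
      nsmul_eq_mul, mul_one, he]
    rw [← card_mul_orb_eq hA l₀ l₀, if_pos rfl]
    push_cast
    field_simp
  rw [beta_eq hA, Char.classInner_sum_smul_sum_smul] at h1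
  simp only [map_intCast] at h1
  rw [← Int.cast_inj (α := ℂ)]
  push_cast
  simpa [pow_two] using h1

omit he in
theorem Bc_mu (hE : Exc ε μ) (l₀ l : NP A) (hl : orb A l ≠ orb A l₀) :
    Bc l₀ (μ (orb A l)) = Bc l₀ (μ (orb A l₀)) + ε := by
  classical
  have hne : (Nat.card A : ℂ) ≠ 0 := Nat.cast_ne_zero.mpr Nat.card_pos.ne'
  have h1 : Cfsg.classInner
      (Cfsg.indFun A (((Char.principalIrr : Cfsg.IrrCharacter A) : A → ℂ) - (l₀.1 : A → ℂ)))
      (Cfsg.indFun A ((l.1 : A → ℂ) - (l₀.1 : A → ℂ))) = 1 := by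
    rw [inner_ind hA _ _ (by simp [irr_apply_one hA])]
    have hx : ∀ x : Subgroup.normalizer (A : Set G), Cfsg.classInner
        (((Char.principalIrr : Cfsg.IrrCharacter A) : A → ℂ) - (l₀.1 : A → ℂ))
        (fun b => ((l.1 : A → ℂ) - (l₀.1 : A → ℂ)) (conjA A x b)) =
        (if tw A x l₀ = l₀ then 1 else 0) - (if tw A x l = l₀ then 1 else 0) := by
      intro x
      rw [show (fun b => ((l.1 : A → ℂ) - (l₀.1 : A → ℂ)) (conjA A x b)) =
        ((tw A x l).1 : A → ℂ) - ((tw A x l₀).1 : A → ℂ) from rfl]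
      simp only [Char.classInner_sub_left, Char.classInner_sub_right, Char.classInner_irrCharacter,
        if_neg (Ne.symm (tw A x l₀).2), if_neg (Ne.symm (tw A x l).2)]
      have hiff : ∀ m : NP A, l₀.1 = (tw A x m).1 ↔ tw A x m = l₀ :=
        fun m => ⟨fun h => (Subtype.ext h).symm, fun h => by rw [h]⟩
      simp only [hiff]
      ring
    simp only [hx, Finset.sum_sub_distrib]
    rw [← card_mul_orb_eq hA l₀ l₀, ← card_mul_orb_eq hA l l₀, if_pos rfl, if_neg hl]
    field_simp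
    norm_num
  rw [beta_eq hA, Char.indFun_sub, hE.tau, Char.classInner_smul_right, Char.classInner_sub_right,
    Char.classInner_sum_smul_irr, Char.classInner_sum_smul_irr, map_intCast] at h1
  have h2 : ε * (Bc l₀ (μ (orb A l)) - Bc l₀ (μ (orb A l₀))) = 1 := by exact_mod_cast h1
  rcases hE.eps_sq with e1 | e1 <;> rw [e1] at h2 ⊢ <;> linarith

omit he in
theorem triple_sum [DecidableEq (Orb A)] [Fintype (Orb A)] (a b c : A) (ha : a ≠ 1) (hb : b ≠ 1) :
    ∑ o : Orb A, (∑ m ∈ Finset.univ.filter (fun m : NP A => o = orb A m), (m.1 : A → ℂ) a) *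
        (∑ m ∈ Finset.univ.filter (fun m : NP A => o = orb A m), (m.1 : A → ℂ) b) *
        conj (∑ m ∈ Finset.univ.filter (fun m : NP A => o = orb A m), (m.1 : A → ℂ) c) =
      (Nat.card A : ℂ) * (pairsA a b c : ℂ) - ((ncl a).card : ℂ) * ((ncl b).card : ℂ) := by
  classical
  simp only [map_sum, Finset.mul_sum]
  rw [Finset.sum_sigma']
  rw [Finset.sum_bij' (t := (Finset.univ : Finset (NP A)))
    (g := fun m => (∑ y ∈ ncl a, (m.1 : A → ℂ) y) * (∑ z ∈ ncl b, (m.1 : A → ℂ) z) * conj ((m.1 : A → ℂ) c))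
    (fun p _ => p.2) (fun m _ => ⟨orb A m, m⟩) (fun _ _ => Finset.mem_univ _)
    (fun m _ => by simp) (fun p hp => by
      simp only [Finset.mem_sigma, Finset.mem_filter, Finset.mem_univ, true_and] at hp
      obtain ⟨o, m⟩ := p
      simp only at hp ⊢
      subst hp; rfl) (fun _ _ => rfl) (fun p hp => by
      simp only [Finset.mem_sigma, Finset.mem_filter, Finset.mem_univ, true_and] at hp
      rw [← orbit_sum hA p.2 ha, ← orbit_sum hA p.2 hb]
      simp only [← hp, Finset.mul_sum])]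
  obtain hf := fun m : NP A => exists_hom hA m.1
  have hmul : ∀ (m : NP A) (y z : A), (m.1 : A → ℂ) y * (m.1 : A → ℂ) z = (m.1 : A → ℂ) (y * z) := by
    intro m y z
    obtain ⟨f, hf⟩ := hf m
    simp [hf]
  simp only [Finset.sum_mul, Finset.mul_sum, hmul]
  rw [Finset.sum_comm, Finset.sum_congr rfl fun y _ => Finset.sum_comm]
  simp only [sum_np_mul hA, Finset.sum_sub_distrib, Finset.sum_const, nsmul_eq_mul, mul_one]
  congr 1
  · rw [Finset.sum_comm, ← Finset.sum_product', ← Finset.sum_filter, Finset.sum_const, nsmul_eq_mul,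
      mul_comm, pairsA]
  · ring

end CfsgLib.CA.Small
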