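import Cfsg.Agent.Lib.CA.EvenOrder

/-!
# Orbit sums of characters of a self-centralizing subgroup

For a self-centralizing `A` with `|N(A)| = |A| e`: the classes of `A` under its normalizer, the orbit sums
of the nonprincipal characters and Frobenius reciprocity for differences of induced characters.
-/

set_option autoImplicit false

open scoped ComplexConjugate

namespace CfsgLib.CA.Small

universe u

variable {G : Type u} [Group G] [Fintype G] {A : Subgroup G} [Fintype A]
  [Fintype (Subgroup.normalizer (A : Set G))]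

open Classical in
/-- The class of `b` under the normalizer of `A`. -/
noncomputable def ncl (b : A) : Finset A :=
  Finset.univ.image fun x : Subgroup.normalizer (A : Set G) => conjA A x b

theorem mem_ncl {b y : A} : y ∈ ncl b ↔ ∃ x, conjA A x b = y := by
  classical simp [ncl]

theorem self_mem_ncl (b : A) : b ∈ ncl b :=
  mem_ncl.2 ⟨1, Subtype.ext (by simp [conjA_coe])⟩

theorem ne_one_of_mem_ncl {b y : A} (hb : b ≠ 1) (h : y ∈ ncl b) : y ≠ 1 := by
  obtain ⟨x, rfl⟩ := mem_ncl.1 h
  exact fun h1 => hb ((conjA A x).injective (h1.trans (map_one _).symm))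

theorem mem_ncl_symm {b y : A} (h : y ∈ ncl b) : b ∈ ncl y := by
  obtain ⟨x, rfl⟩ := mem_ncl.1 h
  exact mem_ncl.2 ⟨x⁻¹, Subtype.ext (by simp [conjA_coe, mul_assoc])⟩

theorem mem_ncl_trans {a b c : A} (h : b ∈ ncl a) (h' : c ∈ ncl b) : c ∈ ncl a := by
  obtain ⟨x, rfl⟩ := mem_ncl.1 h
  obtain ⟨y, rfl⟩ := mem_ncl.1 h'
  exact mem_ncl.2 ⟨y * x, Subtype.ext (by simp [conjA_coe, mul_assoc])⟩

theorem ncl_eq_of_mem {a b : A} (h : b ∈ ncl a) : ncl b = ncl a :=
  Finset.ext fun c => ⟨fun hc => mem_ncl_trans h hc, fun hc => mem_ncl_trans (mem_ncl_symm h) hc⟩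

variable (hA : SelfCent A)
include hA

theorem isConj_iff_mem_ncl {b y : A} (hb : b ≠ 1) : IsConj (b : G) (y : G) ↔ y ∈ ncl b := by
  constructor
  · intro h
    obtain ⟨g, hg⟩ := isConj_iff.1 h
    exact mem_ncl.2 ⟨⟨g, hA.mem_normalizer_of_conj_mem b.2 (fun h1 => hb (Subtype.ext h1)) (hg ▸ y.2)⟩,
      Subtype.ext hg⟩
  · intro h
    obtain ⟨x, rfl⟩ := mem_ncl.1 h
    exact isConj_iff.2 ⟨(x : G), rfl⟩

theorem card_fibre {b y : A} (hb : b ≠ 1) (hy : y ∈ ncl b) [DecidableEq A] :
    (Finset.univ.filter fun x : Subgroup.normalizer (A : Set G) => conjA A x b = y).card = Nat.card A := by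
  obtain ⟨x₀, hx₀⟩ := mem_ncl.1 hy
  rw [← Fintype.card_subtype, ← Nat.card_eq_fintype_card]
  refine Nat.card_congr
    { toFun := fun x => ⟨(x₀ : G)⁻¹ * (x.1 : G), hA.mem_of_commute b.2 (fun h1 => hb (Subtype.ext h1)) ?_⟩
      invFun := fun a => ⟨x₀ * ⟨a, Subgroup.le_normalizer a.2⟩, Subtype.ext ?_⟩
      left_inv := fun x => Subtype.ext (Subtype.ext (by simp))
      right_inv := fun a => Subtype.ext (by simp) }
  · have h : (x.1 : G) * b * (x.1 : G)⁻¹ = (x₀ : G) * b * (x₀ : G)⁻¹ :=
      congrArg Subtype.val (x.2.trans hx₀.symm)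
    calc (x₀ : G)⁻¹ * (x.1 : G) * b = (x₀ : G)⁻¹ * ((x.1 : G) * b * (x.1 : G)⁻¹) * x.1 := by group
      _ = (x₀ : G)⁻¹ * ((x₀ : G) * b * (x₀ : G)⁻¹) * x.1 := by rw [h]
      _ = b * ((x₀ : G)⁻¹ * x.1) := by group
  · rw [← hx₀, conjA_coe, conjA_coe, Subgroup.coe_mul, mul_inv_rev, mul_assoc (x₀ : G), hA.comm a.2 b.2]
    group

theorem sum_conj {M : Type*} [AddCommMonoid M] (F : A → M) {b : A} (hb : b ≠ 1) :
    ∑ x : Subgroup.normalizer (A : Set G), F (conjA A x b) = Nat.card A • ∑ y ∈ ncl b, F y := by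
  classical
  rw [Finset.smul_sum, ← Finset.sum_fiberwise_of_maps_to (t := ncl b) (g := fun x => conjA A x b)
    (fun x _ => mem_ncl.2 ⟨x, rfl⟩)]
  refine Finset.sum_congr rfl fun y hy => ?_
  rw [Finset.sum_congr rfl (g := fun _ => F y) (fun x hx => by rw [(Finset.mem_filter.mp hx).2]),
    Finset.sum_const, card_fibre hA hb hy]

theorem card_ncl {e : ℕ} (he : Nat.card (Subgroup.normalizer (A : Set G)) = Nat.card A * e) {b : A}
    (hb : b ≠ 1) : (ncl b).card = e := by
  have h := sum_conj hA (fun _ => (1 : ℕ)) hb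
  simp only [Finset.sum_const, smul_eq_mul, mul_one, Finset.card_univ, ← Nat.card_eq_fintype_card, he] at h
  exact (Nat.eq_of_mul_eq_mul_left Nat.card_pos h).symm

theorem indFun_eq_ncl (θ : A → ℂ) {b : A} (hb : b ≠ 1) :
    Cfsg.indFun A θ b = ∑ y ∈ ncl b, θ y := by
  classical
  rw [indFun_apply_of_mem hA θ hb, sum_conj hA θ hb, nsmul_eq_mul, inv_mul_cancel_left₀]
  exact Nat.cast_ne_zero.mpr Nat.card_pos.ne'

theorem card_orbit [DecidableEq (Orb A)] {e : ℕ}
    (he : Nat.card (Subgroup.normalizer (A : Set G)) = Nat.card A * e) (l : NP A) :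
    (Finset.univ.filter fun m : NP A => orb A l = orb A m).card = e := by
  classical
  have h : ∑ k : NP A, (Nat.card A : ℂ) * (if orb A l = orb A k then 1 else 0) =
      (Nat.card (Subgroup.normalizer (A : Set G)) : ℂ) := by
    simp only [card_mul_orb_eq hA]
    rw [Finset.sum_comm]
    simp [Nat.card_eq_fintype_card]
  rw [← Finset.mul_sum, Finset.sum_boole, he, Nat.cast_mul,
    mul_right_inj' (Nat.cast_ne_zero.mpr Nat.card_pos.ne'), Nat.cast_inj] at h
  exact h

theorem card_np [Fintype (NP A)] : Fintype.card (NP A) + 1 = Nat.card A := by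
  classical
  have h2 := card_irrA hA
  simp only [Nat.card_eq_fintype_card] at h2 ⊢
  rw [Fintype.card_subtype_compl, Fintype.card_subtype_eq]
  have : 0 < Fintype.card (Cfsg.IrrCharacter A) := Fintype.card_pos_iff.mpr ⟨Char.principalIrr⟩
  omega

theorem card_eq {e : ℕ} (he : Nat.card (Subgroup.normalizer (A : Set G)) = Nat.card A * e)
    [Fintype (Orb A)] : Nat.card A = e * Fintype.card (Orb A) + 1 := by
  classical
  rw [← card_np hA, ← Finset.card_univ, Finset.card_eq_sum_card_fiberwise (f := orb A)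
      (t := Finset.univ) (fun _ _ => Finset.mem_univ _)]
  rw [Finset.sum_congr rfl (g := fun _ => e) fun o _ => ?_, Finset.sum_const, Finset.card_univ,
    smul_eq_mul, mul_comm]
  obtain ⟨l, rfl⟩ := Quotient.exists_rep o
  rw [← card_orbit hA he l]
  congr 1
  ext k
  simp [eq_comm]

/-- The orbit sum of a nonprincipal character is the induced character. -/
theorem orbit_sum [DecidableEq (Orb A)] (l : NP A) {b : A} (hb : b ≠ 1) :
    ∑ m ∈ Finset.univ.filter (fun m : NP A => orb A l = orb A m), (m.1 : A → ℂ) b =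
      ∑ y ∈ ncl b, (l.1 : A → ℂ) y := by
  classical
  have hne : (Nat.card A : ℂ) ≠ 0 := Nat.cast_ne_zero.mpr Nat.card_pos.ne'
  apply mul_left_cancel₀ hne
  rw [← nsmul_eq_mul _ (∑ y ∈ ncl b, _), ← sum_conj hA _ hb, Finset.mul_sum, Finset.sum_filter]
  calc ∑ m : NP A, (if orb A l = orb A m then (Nat.card A : ℂ) * (m.1 : A → ℂ) b else 0)
      = ∑ m : NP A, ∑ x : Subgroup.normalizer (A : Set G),
          (if tw A x l = m then (1 : ℂ) else 0) * (m.1 : A → ℂ) b := by
        refine Finset.sum_congr rfl fun m _ => ?_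
        rw [← Finset.sum_mul, ← card_mul_orb_eq hA l m]
        split_ifs <;> simp
    _ = ∑ x : Subgroup.normalizer (A : Set G), (l.1 : A → ℂ) (conjA A x b) := by
        rw [Finset.sum_comm]
        exact Finset.sum_congr rfl fun x _ => by simp [← tw_apply]

/-- Inner products of induced functions vanishing at the identity. -/
theorem inner_ind (θ η : A → ℂ) (hθ : θ 1 = 0) :
    Cfsg.classInner (Cfsg.indFun A θ) (Cfsg.indFun A η) =
      (Nat.card A : ℂ)⁻¹ * ∑ x : Subgroup.normalizer (A : Set G),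
        Cfsg.classInner θ (fun b => η (conjA A x b)) := by
  classical
  rw [Char.classInner_indFun _ _ _ (Char.isClassFunction_indFun A _)]
  have hres : Cfsg.classInner θ (fun b : A => Cfsg.indFun A η b) =
      Cfsg.classInner θ ((Nat.card A : ℂ)⁻¹ • ∑ x : Subgroup.normalizer (A : Set G),
        fun b => η (conjA A x b)) := by
    unfold Cfsg.classInner
    congr 1
    refine Finset.sum_congr rfl fun b _ => ?_
    by_cases hb : b = 1
    · subst hb; simp [hθ]
    · dsimp only
      rw [indFun_apply_of_mem hA _ hb, Pi.smul_apply, Finset.sum_apply, smul_eq_mul]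
  rw [hres, Char.classInner_smul_right, map_inv₀, map_natCast, Char.classInner_sum_right]

end CfsgLib.CA.Small
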