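import Cfsg.Agent.Lib.CA.ExcValues

/-!
# Existence of the exceptional data
-/

set_option autoImplicit false

open scoped ComplexConjugate

namespace CfsgLib.CA.Small

universe u

variable {G : Type u} [Group G] [Fintype G] {A : Subgroup G} [Fintype A]
  [Fintype (Subgroup.normalizer (A : Set G))] (hA : SelfCent A) {e : ℕ}
  (he : Nat.card (Subgroup.normalizer (A : Set G)) = Nat.card A * e)
  {ε : ℤ} {μ : Orb A → Cfsg.IrrCharacter G}
include hA he

theorem sum_sq_mu (hE : Exc ε μ) [Fintype (Orb A)] [DecidableEq (Orb A)] (l₀ : NP A) :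
    ∑ o : Orb A, Bc l₀ (μ o) ^ 2 = Bc l₀ (μ (orb A l₀)) ^ 2 +
      ((Fintype.card (Orb A) : ℤ) - 1) * (Bc l₀ (μ (orb A l₀)) + ε) ^ 2 := by
  classical
  rw [← Finset.add_sum_erase _ _ (Finset.mem_univ (orb A l₀))]
  congr 1
  rw [Finset.sum_congr rfl (g := fun _ => (Bc l₀ (μ (orb A l₀)) + ε) ^ 2) fun o ho => ?_, Finset.sum_const,
    Finset.card_erase_of_mem (Finset.mem_univ _), Finset.card_univ, nsmul_eq_mul, Nat.cast_sub, Nat.cast_one]
  · exact Fintype.card_pos_iff.mpr ⟨orb A l₀⟩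
  · obtain ⟨l, rfl⟩ := Quotient.exists_rep o
    rw [Bc_mu hA hE l₀ l (Finset.ne_of_mem_erase ho)]

set_option maxHeartbeats 800000 in
theorem data_of_base (hE : Exc ε μ) [Fintype (Orb A)] (h2 : 2 ≤ Fintype.card (Orb A)) (l₀ : NP A)
    (hb : Bc l₀ (μ (orb A l₀)) = -ε) : Nonempty (Data A e) := by
  classical
  choose deg hdeg0 hdeg using fun χ : Cfsg.IrrCharacter G => Char.IsIrrCharacter.exists_degree χ.2
  have hBmu : ∀ o, Bc l₀ (μ o) = if o = orb A l₀ then -ε else 0 := by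
    intro o
    split_ifs with h
    · rw [h, hb]
    · obtain ⟨l, rfl⟩ := Quotient.exists_rep o
      rw [Bc_mu hA hE l₀ l h, hb, neg_add_cancel]
  set R := Finset.univ.filter fun χ : Cfsg.IrrCharacter G => χ ≠ Char.principalIrr ∧ χ ∉ Set.range μ with hR
  set Ω := R.filter fun χ => Bc l₀ χ ≠ 0 with hΩ
  have hmemR : ∀ χ, χ ∈ R ↔ χ ≠ Char.principalIrr ∧ ∀ o, μ o ≠ χ := by
    intro χ; simp [hR]
  have hsplit : ∀ (F : Cfsg.IrrCharacter G → ℂ),
      ∑ χ, F χ = F Char.principalIrr + ∑ o, F (μ o) + ∑ χ ∈ R, F χ := by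
    intro F
    have hd1 : Disjoint (Finset.univ.image μ) R := Finset.disjoint_left.2 fun χ h1 h2 => by
      obtain ⟨o, -, rfl⟩ := Finset.mem_image.1 h1
      exact ((hmemR _).1 h2).2 o rfl
    have hu : Finset.univ.erase (Char.principalIrr : Cfsg.IrrCharacter G) = Finset.univ.image μ ∪ R := by
      ext χ
      simp only [Finset.mem_erase, Finset.mem_univ, and_true, Finset.mem_union, Finset.mem_image, true_and,
        hmemR]
      constructor
      · intro h
        by_cases hr : ∃ o, μ o = χ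
        · exact Or.inl hr
        · exact Or.inr ⟨h, fun o ho => hr ⟨o, ho⟩⟩
      · rintro (⟨o, rfl⟩ | h)
        · exact mu_ne_principal hA hE h2 o
        · exact h.1
    rw [← Finset.add_sum_erase _ _ (Finset.mem_univ Char.principalIrr), hu, Finset.sum_union hd1,
      Finset.sum_image fun a _ b _ h => hE.inj h, add_assoc]
  have hF : ∀ (F : Cfsg.IrrCharacter G → ℂ), (∀ χ ∈ R, Bc l₀ χ = 0 → F χ = 0) →
      ∑ χ ∈ R, F χ = ∑ χ ∈ Ω, F χ := by
    intro F hF
    refine (Finset.sum_subset (Finset.filter_subset _ _) fun χ hχ hn => hF χ hχ ?_).symm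
    by_contra h
    exact hn (Finset.mem_filter.2 ⟨hχ, h⟩)
  have hη : ∀ (o : Orb A), ∀ b : A, b ≠ 1 → (μ o : G → ℂ) b =
      (ε : ℂ) * ∑ m ∈ Finset.univ.filter (fun m : NP A => o = orb A m), (m.1 : A → ℂ) b := by
    intro o b hb1
    rw [apply_eq hA l₀ _ hb1]
    simp only [M_sub hA hE, hBmu, hE.inj.eq_iff, eq_comm (a := o) (b := orb A l₀)]
    push_cast
    simp only [mul_sub, sub_mul, Finset.sum_sub_distrib, mul_assoc, ← Finset.mul_sum, ← Finset.sum_mul,
      sum_np_apply hA hb1, ite_mul, one_mul, zero_mul]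
    rw [Finset.sum_filter]
    simp only [eq_comm (a := o)]
    split_ifs <;> simp [sum_np_apply hA hb1]
  have hrest : ∀ χ ∈ R, ∀ b : A, b ≠ 1 → (χ : G → ℂ) b = (Bc l₀ χ : ℂ) := by
    intro χ hχ b hb1
    rw [apply_eq hA l₀ _ hb1]
    simp [M_sub hA hE, ((hmemR χ).1 hχ).2]
  have hcard : ∀ o : Orb A, (Finset.univ.filter fun m : NP A => o = orb A m).card = e := by
    intro o
    obtain ⟨l, rfl⟩ := Quotient.exists_rep o
    exact card_orbit hA he l
  have hmudeg : ∀ o, deg (μ o) = deg (μ (orb A l₀)) := by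
    intro o
    obtain ⟨l, rfl⟩ := Quotient.exists_rep o
    have h := congrFun (hE.tau l l₀) 1
    rw [Pi.sub_apply, Char.indFun_apply_one, Char.indFun_apply_one, irr_apply_one hA, irr_apply_one hA, sub_self,
      Pi.smul_apply, Pi.sub_apply, hdeg, hdeg, smul_eq_mul, eq_comm, mul_eq_zero, sub_eq_zero] at h
    rcases h with h | h
    · rcases hE.eps_sq with e1 | e1 <;> rw [e1] at h <;> norm_num at h
    · exact_mod_cast h
  refine ⟨{
    eps := ε, eps_sq := hE.eps_sq, f := deg (μ (orb A l₀)), rest := Ω, deg := deg, deg_eq := hdeg,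
    coeff := Bc l₀, f_mod := ?_, exists_f := ⟨_, mu_ne_principal hA hE h2 _, hdeg _⟩,
    rest_ne := fun χ h => ?_, rest_mod := fun χ h => ?_, norm := ?_, degree := ?_, coef := ?_ }⟩
  · have h := apply_one_eq hA l₀ (μ (orb A l₀))
    rw [hdeg] at h
    have h' : (deg (μ (orb A l₀)) : ℤ) = (Nat.card A : ℤ) * M (μ (orb A l₀)) l₀.1 + Bc l₀ (μ (orb A l₀)) +
        ∑ l : NP A, (M (μ (orb A l₀)) l.1 - M (μ (orb A l₀)) l₀.1) := by exact_mod_cast h
    rw [h', hBmu, if_pos rfl]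
    simp only [M_sub hA hE, hE.inj.eq_iff, Finset.mul_sum, mul_sub, mul_ite, mul_one, mul_zero,
      Finset.sum_sub_distrib, Finset.sum_const, Finset.card_univ, nsmul_eq_mul, if_true]
    rw [← Finset.sum_filter, Finset.sum_const, nsmul_eq_mul, ← card_np hA]
    have hc := hcard (orb A l₀)
    simp only [eq_comm (a := orb A l₀)] at hc
    rw [hc]
    exact ⟨M (μ (orb A l₀)) l₀.1 - ε, by push_cast; ring⟩
  · obtain ⟨h1, h2'⟩ := Finset.mem_filter.1 h
    exact ⟨((hmemR χ).1 h1).1, h2'⟩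
  · have h1 := apply_one_eq hA l₀ χ
    rw [hdeg] at h1
    have h' : (deg χ : ℤ) = (Nat.card A : ℤ) * M χ l₀.1 + Bc l₀ χ + ∑ l : NP A, (M χ l.1 - M χ l₀.1) := by
      exact_mod_cast h1
    have hz : ∀ l : NP A, M χ l.1 - M χ l₀.1 = 0 := fun l => by
      rw [M_sub hA hE, if_neg (((hmemR χ).1 (Finset.mem_filter.1 h).1).2 _),
        if_neg (((hmemR χ).1 (Finset.mem_filter.1 h).1).2 _), sub_self, mul_zero]
    rw [h', Finset.sum_eq_zero fun l _ => hz l]
    exact ⟨M χ l₀.1, by ring⟩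
  · have h := sum_Bc_sq hA he l₀
    have h' := hsplit fun χ => ((Bc l₀ χ : ℂ)) ^ 2
    have hc : (∑ χ, (Bc l₀ χ : ℂ) ^ 2) = ((e : ℂ) + 1) := by exact_mod_cast h
    rw [hc, Bc_principal hA l₀, hF _ (fun χ _ h0 => by simp [h0])] at h'
    have hm : ∑ o, Bc l₀ (μ o) ^ 2 = 1 := by
      rw [sum_sq_mu hA he hE l₀, hb]
      rcases hE.eps_sq with e1 | e1 <;> rw [e1] <;> norm_num
    have hm' : (∑ o, (Bc l₀ (μ o) : ℂ) ^ 2) = 1 := by exact_mod_cast hm
    rw [hm'] at h'
    have : (1 : ℂ) + ∑ χ ∈ Ω, (Bc l₀ χ : ℂ) ^ 2 = (e : ℂ) := by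
      push_cast at h'; linear_combination -h'
    rw [add_comm]
    exact_mod_cast this
  · have h := sum_Bc_deg hA l₀
    rw [hsplit, Bc_principal hA l₀, Char.principalIrr_apply, hF _ (fun χ _ h0 => by simp [h0])] at h
    simp only [hdeg, hBmu, hmudeg, Int.cast_ite, Int.cast_neg, Int.cast_zero, ite_mul, zero_mul,
      Finset.sum_ite_eq', Finset.mem_univ, if_true, Int.cast_one, one_mul] at h
    rw [← Int.cast_inj (α := ℂ)]
    push_cast
    linear_combination h
  · intro a b c ha hb1 hc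
    rw [hsplit]
    simp only [Char.principalIrr_apply, map_one, mul_one, div_one]
    rw [hF _ (fun χ hχ h0 => by simp [hrest χ hχ a ha, h0]), add_assoc, add_assoc, add_comm (∑ o, _)]
    congr 2
    · refine Finset.sum_congr rfl fun χ hχ => ?_
      have hR' := (Finset.mem_filter.1 hχ).1
      rw [hrest χ hR' a ha, hrest χ hR' b hb1, hrest χ hR' c hc, map_intCast, hdeg]
      ring
    · simp only [hη _ a ha, hη _ b hb1, hη _ c hc, hdeg, hmudeg, map_mul, map_intCast]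
      rw [← Finset.sum_div]
      congr 1
      rw [Finset.sum_congr rfl (g := fun o => (ε : ℂ) ^ 3 *
        ((∑ m ∈ Finset.univ.filter (fun m : NP A => o = orb A m), (m.1 : A → ℂ) a) *
        (∑ m ∈ Finset.univ.filter (fun m : NP A => o = orb A m), (m.1 : A → ℂ) b) *
        conj (∑ m ∈ Finset.univ.filter (fun m : NP A => o = orb A m), (m.1 : A → ℂ) c))) fun o _ => by ring,
        ← Finset.mul_sum, triple_sum hA a b c ha hb1, card_ncl hA he ha, card_ncl hA he hb1]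
      rcases hE.eps_sq with e1 | e1 <;> rw [e1] <;> push_cast <;> ring

/-- Existence of the data when `e` is small against the number of orbits. -/
theorem exists_data [Fintype (Orb A)] (h2 : 2 ≤ Fintype.card (Orb A))
    (hsmall : (Fintype.card (Orb A) = 2 ∧ e ≤ 4) ∨ e + 1 < Fintype.card (Orb A)) : Nonempty (Data A e) := by
  classical
  obtain ⟨ε₀, μ, hε, hinj, hτ⟩ := Even.exists_exceptional hA
  obtain ⟨ε, hε', rfl⟩ : ∃ z : ℤ, (z = 1 ∨ z = -1) ∧ ε₀ = (z : ℂ) := by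
    rcases hε with h | h
    · exact ⟨1, Or.inl rfl, by simp [h]⟩
    · exact ⟨-1, Or.inr rfl, by simp [h]⟩
  have hE : Exc ε μ := ⟨hε', hinj, hτ⟩
  obtain ⟨l₀⟩ := nonempty_np hA
  have hle : ∑ o : Orb A, Bc l₀ (μ o) ^ 2 ≤ (e : ℤ) := by
    have h := sum_Bc_sq hA he l₀
    rw [← Finset.add_sum_erase _ _ (Finset.mem_univ (Char.principalIrr : Cfsg.IrrCharacter G)),
      Bc_principal hA l₀] at h
    have h' : ∑ o : Orb A, Bc l₀ (μ o) ^ 2 ≤
        ∑ χ ∈ Finset.univ.erase (Char.principalIrr : Cfsg.IrrCharacter G), Bc l₀ χ ^ 2 := by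
      rw [← Finset.sum_image (s := Finset.univ) (g := μ) (f := fun χ => Bc l₀ χ ^ 2) fun a _ b _ h => hinj h]
      refine Finset.sum_le_sum_of_subset_of_nonneg (fun χ hχ => ?_) fun χ _ _ => sq_nonneg _
      obtain ⟨o, -, rfl⟩ := Finset.mem_image.1 hχ
      exact Finset.mem_erase.2 ⟨mu_ne_principal hA hE h2 o, Finset.mem_univ _⟩
    linarith
  rw [sum_sq_mu hA he hE l₀] at hle
  set b₀ := Bc l₀ (μ (orb A l₀)) with hb₀
  by_cases h : b₀ = -ε
  · exact data_of_base hA he hE h2 l₀ h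
  have hne : 1 ≤ (b₀ + ε) ^ 2 := by
    rcases lt_or_gt_of_ne (show b₀ + ε ≠ 0 from fun h0 => h (by linarith)) with h0 | h0 <;> nlinarith
  obtain ⟨hk, he4⟩ : Fintype.card (Orb A) = 2 ∧ e ≤ 4 := hsmall.resolve_right fun h3 => by
    have h3' : (e : ℤ) + 1 < Fintype.card (Orb A) := by exact_mod_cast h3
    nlinarith [sq_nonneg b₀]
  have he4' : (e : ℤ) ≤ 4 := by exact_mod_cast he4
  rw [hk] at hle
  push_cast at hle
  have hb0 : b₀ = 0 := by
    rcases hε' with e1 | e1 <;> rw [e1] at hle h <;>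
      (have : -2 ≤ b₀ ∧ b₀ ≤ 2 := by constructor <;> nlinarith) <;>
      obtain ⟨h1, h3⟩ := this <;> interval_cases b₀ <;> omega
  obtain ⟨o₁, ho₁⟩ := Fintype.exists_ne_of_one_lt_card h2 (orb A l₀)
  have htwo : ∀ o, o = orb A l₀ ∨ o = o₁ := by
    intro o
    by_contra hc
    push Not at hc
    have := Finset.card_le_univ ({o, orb A l₀, o₁} : Finset (Orb A))
    rw [hk, Finset.card_eq_three.2 ⟨o, orb A l₀, o₁, hc.1, hc.2, Ne.symm ho₁, rfl⟩] at this
    omega
  have hE' : Exc (-ε) (μ ∘ Equiv.swap (orb A l₀) o₁) := by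
    refine ⟨by omega, hinj.comp (Equiv.injective _), fun l l' => ?_⟩
    rw [hτ l l']
    funext g
    rcases htwo (orb A l) with a | a <;> rcases htwo (orb A l') with b | b <;>
      simp only [Function.comp_apply, a, b, Equiv.swap_apply_left, Equiv.swap_apply_right, Pi.smul_apply,
        Pi.sub_apply, smul_eq_mul, Int.cast_neg] <;> ring
  refine data_of_base hA he hE' h2 l₀ ?_
  obtain ⟨l₁, rfl⟩ := Quotient.exists_rep o₁
  rw [Function.comp_apply, Equiv.swap_apply_left, Bc_mu hA hE l₀ l₁ ho₁, ← hb₀, hb0]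
  ring

end CfsgLib.CA.Small
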