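import Cfsg.Agent.Lib.CA.Chars
import Mathlib.GroupTheory.Solvable
import Mathlib.GroupTheory.Abelianization.Defs
import Mathlib.Data.ZMod.Basic

/-!
# Suzuki's theorem: CA-groups of odd order are solvable
-/

set_option autoImplicit false

open scoped ComplexConjugate

namespace CfsgLib.CA

universe u

variable {G : Type u} [Group G]

/-- A conjugation invariant integer function sums to an even number over nonprincipal characters. -/
theorem even_sum_of_conj_invariant [Fintype G] (hodd : Odd (Nat.card G))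
    (S : Finset (Cfsg.IrrCharacter G)) (hS : ∀ φ ∈ S, conjIrr φ ∈ S)
    (hp : Char.principalIrr ∉ S) (f : Cfsg.IrrCharacter G → ℤ) (hf : ∀ φ, f (conjIrr φ) = f φ) :
    Even (∑ φ ∈ S, f φ) := by
  rw [even_iff_two_dvd]
  have : ((∑ φ ∈ S, f φ : ℤ) : ZMod 2) = 0 := by
    push_cast
    refine Finset.sum_involution (fun φ _ => conjIrr φ) (fun φ _ => ?_) (fun φ hφ _ h => ?_)
      (fun φ hφ => hS φ hφ) (fun φ _ => conjIrr_conjIrr φ)
    · rw [hf]
      exact CharTwo.add_self_eq_zero _
    · exact hp (eq_principal_of_conjIrr_eq hodd φ h ▸ hφ)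
  exact_mod_cast (ZMod.intCast_zmod_eq_zero_iff_dvd _ 2).mp this

/-- There is no nontrivial perfect CA-group of odd order. -/
theorem subsingleton_of_perfect [Finite G] (hodd : Odd (Nat.card G))
    (hCA : ∀ x : G, x ≠ 1 → ∀ a ∈ Subgroup.centralizer ({x} : Set G),
      ∀ b ∈ Subgroup.centralizer ({x} : Set G), a * b = b * a)
    (hperf : commutator G = ⊤) : Subsingleton G := by
  classical
  cases nonempty_fintype G
  by_contra hcon
  rw [not_subsingleton_iff_nontrivial] at hcon
  obtain ⟨z₁, hz₁⟩ := exists_ne (1 : G)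
  obtain ⟨i₁, -⟩ := exists_inClass hCA hz₁
  have hsc := fun i : ClassIdx G => rep_selfCent i
  choose E X ε n t hn hat ht2 hte hEc hε hprin hclosed hXc hoff hsum hcol hnorm hvan using
    fun i : ClassIdx G => exists_family (hsc i) hodd
  obtain ⟨i₀, -, hmin⟩ := Finset.exists_min_image Finset.univ n ⟨i₁, Finset.mem_univ _⟩
  choose b hb hb1 using fun i => (hsc i).exists_ne_one
  have hbs : ∀ i, b i ∈ sharp (rep i) := fun i => mem_sharp.mpr ⟨hb i, hb1 i⟩
  have hnotin : ∀ {i l : ClassIdx G}, i ≠ l → ∀ c ∈ sharp (rep i), ¬ InClass l c := by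
    intro i l hil c hc hin
    exact hil (inClass_unique (mem_sharp.mp hc).2
      ⟨1, by simpa using (mem_sharp.mp hc).1⟩ hin)
  have hvan' : ∀ l, ∀ φ ∈ E l, ∀ ψ ∈ E l, ∀ c : G, ¬ InClass l c →
      (φ : G → ℂ) c = (ψ : G → ℂ) c := fun l φ hφ ψ hψ c hc =>
    hvan l φ hφ ψ hψ c fun y hy => absurd ⟨y, hy⟩ hc
  have hdisj : ∀ {i l : ClassIdx G}, i ≠ l → Disjoint (E i) (E l) := by
    intro i l hil
    rw [Finset.disjoint_left]
    intro φ hi hl
    refine hprin i (eq_principal_of_conjIrr_eq hodd φ (Subtype.ext (funext fun c => ?_)) ▸ hi)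
    by_cases h1 : c = 1
    · exact hvan i _ (hclosed i φ hi) φ hi c fun y _ => by rw [h1]; simp
    by_cases hc : InClass i c
    · exact hvan' l _ (hclosed l φ hl) φ hl c fun h => hil (inClass_unique h1 hc h)
    · exact hvan' i _ (hclosed i φ hi) φ hi c hc
  -- constancy of the values of a family on the other classes
  have hconst : ∀ {i l : ClassIdx G}, i ≠ l → ∀ φ ∈ E l, ∀ ψ ∈ E l, X i φ = X i ψ := by
    intro i l hil φ hφ ψ hψ
    have h := hvan' l φ hφ ψ hψ (b i) (hnotin hil _ (hbs i))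
    rw [hoff i φ (fun h => Finset.disjoint_left.mp (hdisj hil) h hφ) _ (hbs i),
      hoff i ψ (fun h => Finset.disjoint_left.mp (hdisj hil) h hψ) _ (hbs i)] at h
    exact_mod_cast h
  have hne : ∀ i, ∃ φ, φ ∈ E i := fun i => Finset.card_pos.mp (by rw [hEc]; linarith [ht2 i])
  choose φ₀ hφ₀ using hne
  -- for two classes one of the cross values is nonzero
  have hcross : ∀ {i l : ClassIdx G}, i ≠ l → X i (φ₀ l) ≠ 0 ∨ X l (φ₀ i) ≠ 0 := by
    intro i l hil
    by_contra h
    push Not at h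
    obtain ⟨hil0, hli0⟩ := h
    have hconj : ¬ IsConj (b i) (b l) := by
      intro h
      obtain ⟨c, hc⟩ := isConj_iff.mp h
      refine hnotin hil _ (hbs i) ⟨c⁻¹, ?_⟩
      rw [inv_inv, hc]
      exact hb l
    have hzero := Char.sum_mul_conj (b i) (b l)
    rw [if_neg hconj] at hzero
    set R : Finset (Cfsg.IrrCharacter G) :=
      Finset.univ.filter (fun φ => φ ≠ Char.principalIrr ∧ φ ∉ E i ∧ φ ∉ E l) with hR
    have hterm : ∀ φ : Cfsg.IrrCharacter G, (φ : G → ℂ) (b i) * conj ((φ : G → ℂ) (b l)) =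
        (((if φ = Char.principalIrr then 1 else 0) + if φ ∈ R then X i φ * X l φ else 0 : ℤ) : ℂ) := by
      intro φ
      by_cases hφi : φ ∈ E i
      · have hnl : φ ∉ E l := Finset.disjoint_left.mp (hdisj hil) hφi
        have hnp : φ ≠ Char.principalIrr := fun h => hprin i (h ▸ hφi)
        have hnR : φ ∉ R := fun h => (Finset.mem_filter.mp h).2.2.1 hφi
        rw [hoff l φ hnl _ (hbs l), hconst hil.symm φ hφi _ (hφ₀ i), hli0, if_neg hnp, if_neg hnR]
        simp
      by_cases hφl : φ ∈ E l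
      · have hnp : φ ≠ Char.principalIrr := fun h => hprin l (h ▸ hφl)
        have hnR : φ ∉ R := fun h => (Finset.mem_filter.mp h).2.2.2 hφl
        rw [hoff i φ hφi _ (hbs i), hconst hil φ hφl _ (hφ₀ l), hil0, if_neg hnp, if_neg hnR]
        simp
      by_cases hp : φ = Char.principalIrr
      · subst hp
        have hnR : Char.principalIrr ∉ R := fun h => (Finset.mem_filter.mp h).2.1 rfl
        rw [if_pos rfl, if_neg hnR, Char.principalIrr_apply, Char.principalIrr_apply]
        simp
      · have hmR : φ ∈ R := Finset.mem_filter.mpr ⟨Finset.mem_univ _, hp, hφi, hφl⟩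
        rw [hoff i φ hφi _ (hbs i), hoff l φ hφl _ (hbs l), if_neg hp, if_pos hmR, map_intCast]
        simp
    rw [Finset.sum_congr rfl (fun φ _ => hterm φ), ← Int.cast_sum, Int.cast_eq_zero,
      Finset.sum_add_distrib, Finset.sum_ite_eq', if_pos (Finset.mem_univ _), Finset.sum_ite_mem,
      Finset.univ_inter] at hzero
    have heven : Even (∑ φ ∈ R, X i φ * X l φ) := by
      refine even_sum_of_conj_invariant hodd R (fun φ hφ => ?_) (by simp [hR]) _
        (fun φ => by rw [hXc, hXc])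
      simp only [hR, Finset.mem_filter, Finset.mem_univ, true_and] at hφ ⊢
      refine ⟨fun h => hφ.1 ?_, fun h => hφ.2.1 ?_, fun h => hφ.2.2 ?_⟩
      · rw [← conjIrr_conjIrr φ, h]
        exact Subtype.ext (funext fun g => by simp [conjIrr_apply])
      · rw [← conjIrr_conjIrr φ]; exact hclosed i _ h
      · rw [← conjIrr_conjIrr φ]; exact hclosed l _ h
    obtain ⟨k, hk⟩ := heven
    omega
  -- the row estimate
  let φ := φ₀ i₀
  set g := (Nat.card G : ℝ) with hg
  have hgpos : (0 : ℝ) < g := Nat.cast_pos.mpr Nat.card_pos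
  have ha : ∀ l : ClassIdx G, (Nat.card (rep l) : ℝ) = (n l : ℝ) * t l + 1 := fun l => by
    exact_mod_cast hat l
  have hidx : ∀ l, ((Subgroup.normalizer (rep l : Set G)).index : ℝ) * ((n l : ℝ) * Nat.card (rep l)) = g := by
    intro l
    rw [hg, ← (Subgroup.normalizer (rep l : Set G)).index_mul_card, ← hn l]
    push_cast
    ring
  have hnpos : ∀ l : ClassIdx G, (0 : ℝ) < n l := fun l => by
    rcases Nat.eq_zero_or_pos (n l) with h | h
    · exfalso
      have := hn l
      rw [h, zero_mul] at this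
      exact Nat.card_pos.ne this
    · exact_mod_cast h
  have hapos : ∀ l : ClassIdx G, (0 : ℝ) < Nat.card (rep l) := fun l => Nat.cast_pos.mpr Nat.card_pos
  have hcard : ∀ l : ClassIdx G, ((sharp (rep l)).card : ℝ) = (n l : ℝ) * t l := by
    intro l
    have h1 : (sharp (rep l)).card + 1 = Nat.card (rep l) := by
      have h2 : sharp (rep l) = (Finset.univ.filter (fun c => c ∈ rep l)).erase 1 := by
        ext c
        simp [mem_sharp, and_comm]
      rw [h2, Finset.card_erase_add_one (by simp), Nat.card_eq_fintype_card, Fintype.card_subtype]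
    have := congrArg (Nat.cast : ℕ → ℝ) h1
    rw [ha l] at this
    push_cast at this
    linarith
  have hw : ∀ l, ((Subgroup.normalizer (rep l : Set G)).index : ℝ) * ((n l : ℝ) * t l) =
      g * ((t l : ℝ) / Nat.card (rep l)) := by
    intro l
    rw [← hidx l]
    field_simp [(hapos l).ne']
  obtain ⟨d, hd0, hd⟩ := Char.IsIrrCharacter.exists_degree φ.2
  have hd2 : 2 ≤ d := by
    by_contra h
    have hd1 : d = 1 := by omega
    rw [hd1, Nat.cast_one] at hd
    obtain ⟨f, hf⟩ := Char.IsCharacter.exists_linear (Char.IsIrrCharacter.isCharacter φ.2) hd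
    refine hprin i₀ ((Subtype.ext (funext fun c => ?_) : φ = Char.principalIrr) ▸ hφ₀ i₀)
    have hker : commutator G ≤ MonoidHom.ker f := Abelianization.commutator_subset_ker f
    rw [hf, Char.principalIrr_apply, MonoidHom.mem_ker.mp (hker (hperf ▸ Subgroup.mem_top c)),
      Units.val_one]
  have hrow : g = (d : ℝ) ^ 2 + ∑ l : ClassIdx G, ((Subgroup.normalizer (rep l : Set G)).index : ℝ) *
      ∑ c ∈ sharp (rep l), ‖(φ : G → ℂ) c‖ ^ 2 := by
    have htot : ∑ c : G, ‖(φ : G → ℂ) c‖ ^ 2 = g := by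
      have h := Char.classInner_irr_self φ.2
      rw [Cfsg.classInner, inv_mul_eq_iff_eq_mul₀ (Nat.cast_ne_zero.mpr Nat.card_pos.ne'), mul_one] at h
      have h' : ((∑ c : G, ‖(φ : G → ℂ) c‖ ^ 2 : ℝ) : ℂ) = ((g : ℝ) : ℂ) := by
        rw [hg, Complex.ofReal_natCast, ← h]
        push_cast
        exact Finset.sum_congr rfl fun c _ => (Complex.mul_conj' _).symm
      exact_mod_cast h'
    rw [← htot, ← Finset.add_sum_erase _ _ (Finset.mem_univ (1 : G)), hd, Complex.norm_natCast,
      sum_classes hCA (fun c => ‖(φ : G → ℂ) c‖ ^ 2) (fun c h => by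
        rw [Char.IsIrrCharacter.isClassFunction φ.2 c h])]
    congr 1
  have hclass : g - 1 = ∑ l : ClassIdx G, g * ((t l : ℝ) / Nat.card (rep l)) := by
    have h := sum_classes hCA (fun _ : G => (1 : ℝ)) (fun _ _ => rfl)
    rw [Finset.sum_const, Finset.card_erase_of_mem (Finset.mem_univ _), Finset.card_univ,
      nsmul_eq_mul, mul_one, Nat.cast_sub Fintype.card_pos] at h
    rw [hg, Nat.card_eq_fintype_card]
    push_cast at h
    rw [h]
    refine Finset.sum_congr rfl fun l _ => ?_
    rw [← Nat.card_eq_fintype_card, ← hg, ← hw l, ← hcard l, Finset.sum_const, nsmul_eq_mul, mul_one]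
    congr 2
  set J := (Finset.univ : Finset (ClassIdx G)).erase i₀ with hJ
  set In := J.filter (fun l => X i₀ (φ₀ l) ≠ 0) with hIn
  set Out := J.filter (fun l => ¬ X i₀ (φ₀ l) ≠ 0) with hOut
  have hrowle : ((d : ℝ) ^ 2) + (g - g * ((n i₀ : ℝ) / Nat.card (rep i₀))) +
      ∑ l ∈ Out, g * ((t l : ℝ) / Nat.card (rep l)) ≤ g := by
    conv_rhs => rw [hrow, ← Finset.add_sum_erase _ _ (Finset.mem_univ i₀), ← hJ]
    have hown : g - g * ((n i₀ : ℝ) / Nat.card (rep i₀)) ≤
        ((Subgroup.normalizer (rep i₀ : Set G)).index : ℝ) *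
          ∑ c ∈ sharp (rep i₀), ‖(φ : G → ℂ) c‖ ^ 2 := by
      refine le_trans (le_of_eq ?_) (mul_le_mul_of_nonneg_left (hnorm i₀ φ (hφ₀ i₀)) (Nat.cast_nonneg _))
      rw [← hidx i₀]
      field_simp [(hapos i₀).ne']
    have hother : ∑ l ∈ Out, g * ((t l : ℝ) / Nat.card (rep l)) ≤
        ∑ l ∈ J, ((Subgroup.normalizer (rep l : Set G)).index : ℝ) *
          ∑ c ∈ sharp (rep l), ‖(φ : G → ℂ) c‖ ^ 2 := by
      refine le_trans (Finset.sum_le_sum fun l hl => ?_) (Finset.sum_le_sum_of_subset_of_nonneg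
        (Finset.filter_subset _ _) fun l _ _ => mul_nonneg (Nat.cast_nonneg _)
          (Finset.sum_nonneg fun c _ => sq_nonneg _))
      obtain ⟨hlJ, hl0⟩ := Finset.mem_filter.mp hl
      have hli : l ≠ i₀ := (Finset.mem_erase.mp hlJ).1
      have hx : X l φ ≠ 0 := (hcross hli.symm).resolve_left hl0
      rw [← hw l, ← hcard l]
      refine mul_le_mul_of_nonneg_left ?_ (Nat.cast_nonneg _)
      calc ((sharp (rep l)).card : ℝ) = ∑ c ∈ sharp (rep l), (1 : ℝ) := by simp
        _ ≤ _ := Finset.sum_le_sum fun c hc => by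
          rw [hoff l φ (fun h => Finset.disjoint_left.mp (hdisj hli) h (hφ₀ i₀)) c hc,
            Complex.norm_intCast, sq_abs]
          exact_mod_cast Int.one_le_abs (pow_ne_zero 2 hx) |>.trans_eq (abs_of_nonneg (sq_nonneg _))
    linarith
  have hIncard : (∑ l ∈ In, (t l : ℝ)) ≤ (n i₀ : ℝ) - 1 := by
    have hS : ∀ S, S = In.biUnion E → (∑ l ∈ In, (t l : ℤ)) ≤ (n i₀ : ℤ) - 1 := by
      intro S hS
      have h1 : Disjoint S (E i₀) := by
        rw [hS, Finset.disjoint_biUnion_left]
        exact fun l hl => hdisj (Finset.mem_erase.mp (Finset.mem_filter.mp hl).1).1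
      have h2 : Char.principalIrr ∉ S := by
        rw [hS, Finset.mem_biUnion]
        rintro ⟨l, -, h⟩
        exact hprin l h
      refine le_trans ?_ (hcol i₀ S h1 h2)
      rw [hS, Finset.sum_biUnion (fun x _ y _ hxy => hdisj hxy)]
      refine Finset.sum_le_sum fun l hl => ?_
      rw [← hEc l, ← mul_one ((E l).card : ℤ), ← nsmul_eq_mul, ← Finset.sum_const]
      refine Finset.sum_le_sum fun ψ hψ => ?_
      have hne := (Finset.mem_filter.mp hl).2
      rw [← hconst (Finset.mem_erase.mp (Finset.mem_filter.mp hl).1).1.symm ψ hψ _ (hφ₀ l)] at hne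
      exact (Int.one_le_abs (pow_ne_zero 2 hne)).trans_eq (abs_of_nonneg (sq_nonneg _))
    have := hS _ rfl
    exact_mod_cast this
  have hInle : ∑ l ∈ In, g * ((t l : ℝ) / Nat.card (rep l)) ≤
      g * (((n i₀ : ℝ) - 1) / (2 * n i₀ + 1)) := by
    refine le_trans (Finset.sum_le_sum (g := fun l => g * ((t l : ℝ) / (2 * n i₀ + 1))) fun l _ => ?_) ?_
    · refine mul_le_mul_of_nonneg_left
        (div_le_div_of_nonneg_left (Nat.cast_nonneg _) (by positivity) ?_) hgpos.le
      rw [ha l]
      have h1 : (n i₀ : ℝ) ≤ n l := by exact_mod_cast hmin l (Finset.mem_univ l)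
      have h2 : (2 : ℝ) ≤ t l := by exact_mod_cast ht2 l
      nlinarith [hnpos i₀]
    · rw [← Finset.mul_sum, ← Finset.sum_div]
      exact mul_le_mul_of_nonneg_left (div_le_div_of_nonneg_right hIncard (by positivity)) hgpos.le
  have hself : ((t i₀ : ℝ) + n i₀) / Nat.card (rep i₀) ≤ ((n i₀ : ℝ) + 2) / (2 * n i₀ + 1) := by
    rw [div_le_div_iff₀ (hapos i₀) (by positivity), ha i₀]
    have h1 : (1 : ℝ) ≤ n i₀ := by exact_mod_cast (Nat.one_le_iff_ne_zero.mpr (by
      have := hnpos i₀
      exact_mod_cast this.ne'))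
    have h2 : (2 : ℝ) ≤ t i₀ := by exact_mod_cast ht2 i₀
    nlinarith [mul_nonneg (sub_nonneg.mpr h2) (mul_nonneg (sub_nonneg.mpr h1) (by positivity : (0:ℝ) ≤ n i₀ + 1))]
  rw [← Finset.add_sum_erase _ _ (Finset.mem_univ i₀), ← hJ,
    ← Finset.sum_filter_add_sum_filter_not J (fun l => X i₀ (φ₀ l) ≠ 0), ← hIn, ← hOut] at hclass
  have h4 : (4 : ℝ) ≤ (d : ℝ) ^ 2 := by
    have : (2 : ℝ) ≤ d := by exact_mod_cast hd2
    nlinarith
  have hone : (((n i₀ : ℝ) + 2) / (2 * n i₀ + 1)) + (((n i₀ : ℝ) - 1) / (2 * n i₀ + 1)) = 1 := by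
    rw [← add_div, div_eq_one_iff_eq (by positivity)]
    ring
  have h5 := mul_le_mul_of_nonneg_left hself hgpos.le
  have h6 : g * ((n i₀ : ℝ) + 2) / (2 * n i₀ + 1) + g * (((n i₀ : ℝ) - 1) / (2 * n i₀ + 1)) = g := by
    rw [mul_div_assoc, ← mul_add, hone, mul_one]
  rw [add_div, mul_add] at h5
  rw [mul_div_assoc] at h6
  linarith

/-- Suzuki's theorem. -/
theorem isSolvable_of_ca [Finite G] (hodd : Odd (Nat.card G))
    (hCA : ∀ x : G, x ≠ 1 → ∀ a ∈ Subgroup.centralizer ({x} : Set G),
      ∀ b ∈ Subgroup.centralizer ({x} : Set G), a * b = b * a) : Group.IsSolvable G := by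
  induction hN : Nat.card G using Nat.strong_induction_on generalizing G with
  | _ N ih =>
    by_cases hperf : commutator G = ⊤
    · have := subsingleton_of_perfect hodd hCA hperf
      infer_instance
    · have hlt : Nat.card (commutator G) < N := by
        rw [← hN]
        exact lt_of_le_of_ne (Subgroup.card_le_card_group _)
          (fun h => hperf (Subgroup.eq_top_of_card_eq _ h))
      have : Group.IsSolvable (commutator G) := ih _ hlt
        (Odd.of_dvd_nat hodd (Subgroup.card_subgroup_dvd_card _))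
        (fun x hx a ha b hb => Subtype.ext (hCA x (fun h => hx (Subtype.ext h)) a
          (Subgroup.mem_centralizer_singleton_iff.mpr
            (congrArg Subtype.val (Subgroup.mem_centralizer_singleton_iff.mp ha))) b
          (Subgroup.mem_centralizer_singleton_iff.mpr
            (congrArg Subtype.val (Subgroup.mem_centralizer_singleton_iff.mp hb))))) rfl
      exact Group.isSolvable_of_ker_le_range (commutator G).subtype (Abelianization.of (G := G))
        (by rw [Subgroup.range_subtype, Abelianization.ker_of])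

end CfsgLib.CA
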